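/-
A member of the radical of a line that is not scalar gives the whole isometry group.
-/
import Cfsg.Agent.Lib.SympTensor.Setup

set_option autoImplicit false
set_option linter.all false

namespace Cfsg.Agent.SympTensor

open scoped Matrix Kronecker
open Matrix Cfsg.Agent.Transvec Cfsg.Agent.TensorMax
open Cfsg.Agent.TensorMax.U (kr mv_kr_ten)

variable {α β : Type} [Fintype α] [DecidableEq α] [Fintype β] [DecidableEq β] {F : Type*} [Field F]
variable {f : (α × β → F) → (α × β → F) → F} {f₁ : (α → F) → (α → F) → F} {Q : (β → F) → F}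
variable {M : Subgroup (GL (α × β) F)}

/-- Members of the radical of a line. -/
def Short (f₁ : (α → F) → (α → F) → F) (M : Subgroup (GL (α × β) F)) (e : α → F)
    (S : (β → F) →ₗ[F] β → F) : Prop :=
  ∃ g ∈ M, ∀ x, mv g x = x + ten e (S (piv f₁ e x))

theorem piv_line (C : Ctx f f₁ Q M) (e : α → F) (w : β → F) : piv f₁ e (ten e w) = 0 := by
  rw [piv_ten C, C.h₁.alternating, zero_smul]

theorem Short.add (C : Ctx f f₁ Q M) {e : α → F} {S T : (β → F) →ₗ[F] β → F} (hS : Short f₁ M e S)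
    (hT : Short f₁ M e T) : Short f₁ M e (S + T) := by
  obtain ⟨g, hg, hgv⟩ := hS
  obtain ⟨h, hh, hhv⟩ := hT
  exact ⟨g * h, M.mul_mem hg hh, fun x => by
    rw [mv_mul, hhv, hgv, map_add, piv_line C, add_zero, LinearMap.add_apply, ten_add_right]; abel⟩

theorem Short.zero {e : α → F} : Short f₁ M e 0 :=
  ⟨1, M.one_mem, fun x => by rw [mv_one, LinearMap.zero_apply, ten_zero_right, add_zero]⟩

theorem Short.neg (C : Ctx f f₁ Q M) {e : α → F} {S : (β → F) →ₗ[F] β → F} (hS : Short f₁ M e S) :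
    Short f₁ M e (-S) := by
  obtain ⟨g, hg, hgv⟩ := hS
  refine ⟨g⁻¹, M.inv_mem hg, fun x => mv_inj g ?_⟩
  rw [mv_mv_inv, hgv, map_add, piv_line C, add_zero, add_assoc, ← ten_add_right, LinearMap.neg_apply,
    neg_add_cancel, ten_zero_right, add_zero]

theorem Short.sub (C : Ctx f f₁ Q M) {e : α → F} {S T : (β → F) →ₗ[F] β → F} (hS : Short f₁ M e S)
    (hT : Short f₁ M e T) : Short f₁ M e (S - T) := by
  rw [sub_eq_add_neg]; exact hS.add C (hT.neg C)

theorem short_id (C : Ctx f f₁ Q M) (e : α → F) (k : F) : Short f₁ M e (k • LinearMap.id) :=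
  ⟨tA C e k, tA_mem C e k, fun x => by
    rw [mv_tA, LinearMap.smul_apply, LinearMap.id_apply, ten_smul_right]⟩

theorem exists_scale [Finite F] (C : Ctx f f₁ Q M) {e : α → F} (he : e ≠ 0) {l : F} (hl : l ≠ 0) :
    ∃ A : GL α F, (∀ u v, f₁ (mv A u) (mv A v) = f₁ u v) ∧ mv A e = l • e := by
  obtain ⟨A, hA, hAe, -⟩ := exists_move_nondeg C.h₁ (nondeg_top C.h₁)
    (K := preserving (Units.coeHom (Matrix α α F)) f₁) (fun v _ c => stv_mem C.h₁ v c) Submodule.mem_top
    Submodule.mem_top he (smul_ne_zero hl he)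
  exact ⟨A, fun u v => hA u v, hAe⟩

theorem short_smul [Finite F] (C : Ctx f f₁ Q M) {e : α → F} (he : e ≠ 0) {S : (β → F) →ₗ[F] β → F}
    (hS : Short f₁ M e S) (k : F) : Short f₁ M e (k • S) := by
  have sq : ∀ l : F, Short f₁ M e ((l * l) • S) := by
    intro l
    rcases eq_or_ne l 0 with rfl | hl
    · simpa using Short.zero
    obtain ⟨A, hA, hAe⟩ := exists_scale C he hl
    obtain ⟨g, hg, hgv⟩ := hS
    set a := kr A (1 : GL β F) with ha
    have haM : a ∈ M := C.kr_mem A 1 hA mv_one_pol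
    refine ⟨a * g * a⁻¹, M.mul_mem (M.mul_mem haM hg) (M.inv_mem haM), fun x => ?_⟩
    have hp : piv f₁ e (mv a⁻¹ x) = l • piv f₁ e x := by
      have h := piv_kr C A 1 hA (mv A e) (mv a⁻¹ x)
      rw [← ha, mv_mv_inv, mv_inv_mv, mv_one, hAe, piv_smul C] at h
      exact h.symm
    rw [mv_mul, mv_mul, hgv, mv_add, mv_mv_inv, hp, ha, mv_kr_ten, mv_one, hAe, map_smul, ten_smul_left,
      ten_smul_right, LinearMap.smul_apply, ten_smul_right, smul_smul]
  have := (sq ((k + 1) / 2)).sub C (sq ((k - 1) / 2))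
  have h2 := C.h2
  convert this using 1
  refine LinearMap.ext fun x => ?_
  simp only [LinearMap.smul_apply, LinearMap.sub_apply]
  match_scalars
  field_simp
  ring

theorem short_symm (C : Ctx f f₁ Q M) {e d : α → F} (hde : f₁ d e = 1) {S : (β → F) →ₗ[F] β → F}
    (hS : Short f₁ M e S) (x y : β → F) : Orth.pol Q (S x) y = Orth.pol Q x (S y) := by
  obtain ⟨g, hg, hgv⟩ := hS
  have he : f₁ e d = -1 := by rw [C.h₁.skew, hde]
  have h := C.iso hg (ten d x) (ten d y)
  rw [hgv, hgv, piv_ten C, piv_ten C, hde, one_smul, one_smul, C.hf.bilinear.add_left, C.hf.bilinear.add_right,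
    C.hf.bilinear.add_right, C.hpol, C.hpol, C.hpol, C.hpol, C.h₁.alternating, C.h₁.alternating, he, hde] at h
  linear_combination -h

theorem short_conj (C : Ctx f f₁ Q M) {e : α → F} {S : (β → F) →ₗ[F] β → F} (hS : Short f₁ M e S) {G : GL β F}
    (hG : G ∈ isometryGroup F Q) : Short f₁ M e ((mvLin G).comp (S.comp (mvLin G⁻¹))) := by
  obtain ⟨g, hg, hgv⟩ := hS
  have hb := tB_mem C (α := α) hG
  refine ⟨tB G * g * (tB G)⁻¹, M.mul_mem (M.mul_mem hb hg) (M.inv_mem hb), fun x => ?_⟩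
  have hp : piv f₁ e (mv (tB G)⁻¹ x) = mv G⁻¹ (piv f₁ e x) := mv_inj G (by
    rw [← piv_tB C, mv_mv_inv, mv_mv_inv])
  rw [mv_mul, mv_mul, hgv, mv_add, mv_mv_inv, hp, tB_ten]
  simp only [LinearMap.comp_apply, Matrix.toLin'_apply]

/-- The rank one map of a vector. -/
def r1 (hQ : Geo.IsNondegenerateQuadraticForm Q) (c : β → F) : (β → F) →ₗ[F] β → F :=
  (Orth.formQ hQ c).smulRight c

/-- A symmetric map that is not scalar has a singular vector off its conic. -/
theorem exists_off_cone [Finite F] (C : Ctx f f₁ Q M) {S : (β → F) →ₗ[F] β → F}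
    (hsym : ∀ x y, Orth.pol Q (S x) y = Orth.pol Q x (S y))
    (h : ∀ c, Q c = 0 → Orth.pol Q (S c) c = 0) : ∃ k : F, S = k • LinearMap.id := by
  have hQ := C.hQ
  have h2 := C.h2
  obtain ⟨l, hl0, hl⟩ := C.hl
  obtain ⟨c, d, u₀, hc, hd, hcd, hu₀c, hu₀d, hu₀⟩ := exists_hyp C
  have hcc : Orth.pol Q c c = 0 := by rw [Orth.pol_self hQ, hc, mul_zero]
  have hdd : Orth.pol Q d d = 0 := by rw [Orth.pol_self hQ, hd, mul_zero]
  have hdc : Orth.pol Q d c = 1 := by rw [Orth.pol_comm]; exact hcd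
  set μ := Orth.pol Q (S c) d with hμ
  have hSdc : Orth.pol Q (S d) c = μ := by rw [hsym, Orth.pol_comm]
  set L := LinearMap.ker (LinearMap.pi ![Orth.formQ hQ c, Orth.formQ hQ d]) with hL
  have memL : ∀ u, u ∈ L ↔ Orth.pol Q u c = 0 ∧ Orth.pol Q u d = 0 := fun u =>
    ⟨fun hu => ⟨congrFun (LinearMap.mem_ker.1 hu) 0, congrFun (LinearMap.mem_ker.1 hu) 1⟩,
      fun hu => LinearMap.mem_ker.2 (by ext i; fin_cases i <;> [exact hu.1; exact hu.2])⟩
  have main : ∀ u ∈ L, Q u ≠ 0 →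
      Orth.pol Q (S u) u = μ * (2 * Q u) ∧ Orth.pol Q (S u) c = 0 ∧ Orth.pol Q (S u) d = 0 := by
    intro u hu huQ
    obtain ⟨huc, hud⟩ := (memL u).1 hu
    have hcu : Orth.pol Q c u = 0 := by rw [Orth.pol_comm]; exact huc
    have pt : ∀ t : F, 2 * t * Orth.pol Q (S u) c + t * t * (Orth.pol Q (S u) u - 2 * Q u * μ)
        - 2 * (t * t * t) * Q u * Orth.pol Q (S u) d = 0 := fun t => by
      have hs : Q (c + t • u - (t * t * Q u) • d) = 0 := by
        rw [Orth.q_sub hQ, Orth.q_add hQ, Orth.q_smul hQ, Orth.q_smul hQ, Orth.pol_smul_right hQ,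
          Orth.pol_smul_right hQ, Orth.pol_add_left hQ, Orth.pol_smul_left hQ, hc, hd, hcd, hcu, hud]
        ring
      have := h _ hs
      simp only [map_add, map_sub, map_smul, Orth.pol_add_left hQ, Orth.pol_sub_left hQ, Orth.pol_smul_left hQ,
        Orth.pol_add_right hQ, Orth.pol_sub_right hQ, Orth.pol_smul_right hQ, h c hc, h d hd, ← hμ, hSdc] at this
      rw [show Orth.pol Q (S c) u = Orth.pol Q (S u) c by rw [hsym, Orth.pol_comm],
        show Orth.pol Q (S d) u = Orth.pol Q (S u) d by rw [hsym, Orth.pol_comm]] at this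
      linear_combination this
    have p1 := pt 1
    have p2 := pt (-1)
    have p3 := pt l
    have e1 : Orth.pol Q (S u) u = μ * (2 * Q u) :=
      mul_left_cancel₀ h2 (by linear_combination p1 + p2)
    have e3 : Orth.pol Q (S u) c = Q u * Orth.pol Q (S u) d :=
      mul_left_cancel₀ h2 (by linear_combination p1 - e1)
    have e4 : (2 * l * (1 - l * l) * Q u) * Orth.pol Q (S u) d = 0 := by
      linear_combination p3 - l * l * e1 - 2 * l * e3
    have e5 : Orth.pol Q (S u) d = 0 := (mul_eq_zero.1 e4).resolve_left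
      (mul_ne_zero (mul_ne_zero (mul_ne_zero h2 hl0) (sub_ne_zero.2 (Ne.symm hl))) huQ)
    exact ⟨e1, by rw [e3, e5, mul_zero], e5⟩
  have hLnd : Orth.Nondeg Q L := by
    intro u hu hperp
    by_contra hu0
    obtain ⟨y, hy⟩ := (hQ.nondegenerate u hu0).1
    apply hy
    obtain ⟨huc, hud⟩ := (memL u).1 hu
    have := hperp (y - Orth.pol Q y d • c - Orth.pol Q y c • d) ((memL _).2 ⟨by
        rw [Orth.pol_sub_left hQ, Orth.pol_sub_left hQ, Orth.pol_smul_left hQ, Orth.pol_smul_left hQ, hcc, hdc]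
        ring, by
        rw [Orth.pol_sub_left hQ, Orth.pol_sub_left hQ, Orth.pol_smul_left hQ, Orth.pol_smul_left hQ, hcd, hdd]
        ring⟩)
    rwa [Orth.pol_sub_left hQ, Orth.pol_sub_left hQ, Orth.pol_smul_left hQ, Orth.pol_smul_left hQ,
      Orth.pol_comm c u, huc, Orth.pol_comm d u, hud, mul_zero, mul_zero, sub_zero, sub_zero] at this
  -- the orthogonal space
  have lin : ∀ u ∈ L, Orth.pol Q (S u) c = 0 ∧ Orth.pol Q (S u) d = 0 := by
    have hle : L ≤ LinearMap.ker ((Orth.formQ hQ c).comp S) ⊓ LinearMap.ker ((Orth.formQ hQ d).comp S) :=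
      SympOrth.forall_of_nonsing hQ h2 hLnd fun z hz hzQ =>
        ⟨LinearMap.mem_ker.2 (main z hz hzQ).2.1, LinearMap.mem_ker.2 (main z hz hzQ).2.2⟩
    exact fun u hu => ⟨LinearMap.mem_ker.1 (hle hu).1, LinearMap.mem_ker.1 (hle hu).2⟩
  have diag : ∀ u ∈ L, Orth.pol Q (S u) u = μ * (2 * Q u) := fun u hu => by
    by_cases huQ : Q u = 0
    · rw [h u huQ, huQ, mul_zero, mul_zero]
    · exact (main u hu huQ).1
  have bil : ∀ u ∈ L, ∀ v ∈ L, Orth.pol Q (S u) v = μ * Orth.pol Q u v := fun u hu v hv => by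
    have e := diag (u + v) (L.add_mem hu hv)
    rw [map_add, Orth.pol_add_left hQ, Orth.pol_add_right hQ, Orth.pol_add_right hQ, diag u hu, diag v hv,
      Orth.q_add hQ, show Orth.pol Q (S v) u = Orth.pol Q (S u) v by rw [hsym, Orth.pol_comm]] at e
    exact mul_left_cancel₀ h2 (by linear_combination e)
  refine ⟨μ, LinearMap.ext fun x => eq_of_pol C fun z => ?_⟩
  rw [LinearMap.smul_apply, LinearMap.id_apply, Orth.pol_smul_left hQ]
  have split : ∀ y, ∃ a b : F, ∃ u ∈ L, y = a • c + b • d + u := fun y =>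
    ⟨Orth.pol Q y d, Orth.pol Q y c, y - Orth.pol Q y d • c - Orth.pol Q y c • d, (memL _).2 ⟨by
        rw [Orth.pol_sub_left hQ, Orth.pol_sub_left hQ, Orth.pol_smul_left hQ, Orth.pol_smul_left hQ, hcc, hdc]
        ring, by
        rw [Orth.pol_sub_left hQ, Orth.pol_sub_left hQ, Orth.pol_smul_left hQ, Orth.pol_smul_left hQ, hcd, hdd]
        ring⟩, by abel⟩
  obtain ⟨a, b, u, hu, rfl⟩ := split x
  obtain ⟨a', b', v, hv, rfl⟩ := split z
  obtain ⟨huc, hud⟩ := (memL u).1 hu
  obtain ⟨hvc, hvd⟩ := (memL v).1 hv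
  obtain ⟨l1, l2⟩ := lin u hu
  obtain ⟨l3, l4⟩ := lin v hv
  simp only [map_add, map_smul, Orth.pol_add_left hQ, Orth.pol_smul_left hQ, Orth.pol_add_right hQ,
    Orth.pol_smul_right hQ, h c hc, h d hd, ← hμ, hSdc, l1, l2, bil u hu v hv, hcc, hdd, hcd, hdc, huc, hud]
  rw [show Orth.pol Q (S c) v = Orth.pol Q (S v) c by rw [hsym, Orth.pol_comm],
    show Orth.pol Q (S d) v = Orth.pol Q (S v) d by rw [hsym, Orth.pol_comm], l3, l4,
    Orth.pol_comm c v, hvc, Orth.pol_comm d v, hvd]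
  ring

/-- A singular vector off the conic gives a rank one member. -/
theorem short_r1 [Finite F] (C : Ctx f f₁ Q M) {e : α → F} (he : e ≠ 0) {S : (β → F) →ₗ[F] β → F}
    (hS : Short f₁ M e S) {c : β → F} (hc : Q c = 0) (hSc : Orth.pol Q (S c) c ≠ 0) :
    Short f₁ M e (r1 C.hQ c) := by
  have hQ := C.hQ
  have hcc : Orth.pol Q c c = 0 := by rw [Orth.pol_self hQ, hc, mul_zero]
  obtain ⟨u, hu, huc⟩ : ∃ u, Q u ≠ 0 ∧ Orth.pol Q u c = 0 := by
    by_contra hno
    push Not at hno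
    set K := LinearMap.ker (Orth.formQ hQ c)
    have hK : ∀ y ∈ K, Q y = 0 := fun y hy => by
      by_contra hyQ
      exact hno y hyQ (LinearMap.mem_ker.1 hy)
    have := Orth.finrank_totally_orth_le hQ (Orth.nondeg_top hQ) (L := K) le_top fun a ha b hb => by
      show QuadraticMap.polar Q a b = 0
      rw [QuadraticMap.polar, hK a ha, hK b hb, hK _ (K.add_mem ha hb), sub_zero, sub_zero]
    have hk : _ + Module.finrank F K = _ := LinearMap.finrank_range_add_finrank_ker (Orth.formQ hQ c)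
    have hr := Submodule.finrank_le (LinearMap.range (Orth.formQ hQ c))
    rw [Module.finrank_self] at hr
    rw [finrank_top, Module.finrank_pi] at this
    rw [Module.finrank_pi] at hk
    have := C.h3
    omega
  have hcu : Orth.pol Q c u = 0 := by rw [Orth.pol_comm]; exact huc
  set Aop : (β → F) →ₗ[F] β → F := (Orth.formQ hQ c).smulRight u - (Orth.formQ hQ u).smulRight c
  set Bop : (β → F) →ₗ[F] β → F := (-Q u) • r1 hQ c
  have conj : ∀ s : F, Short f₁ M e
      ((LinearMap.id + s • Aop + (s * s) • Bop).comp (S.comp (LinearMap.id - s • Aop + (s * s) • Bop))) := by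
    intro s
    obtain ⟨G, hG, hGs⟩ := Orth.exists_siegel hQ hc (show Orth.pol Q c (s • u) = 0 by
      rw [Orth.pol_smul_right hQ, hcu, mul_zero])
    have e1 : mvLin G = LinearMap.id + s • Aop + (s * s) • Bop := LinearMap.ext fun z => by
      rw [Matrix.toLin'_apply]
      show mv G z = _
      rw [hGs z]
      simp only [Aop, Bop, r1, LinearMap.add_apply, LinearMap.smul_apply, LinearMap.sub_apply, LinearMap.id_apply,
        LinearMap.smulRight_apply, Orth.formQ_apply, Orth.q_smul hQ, Orth.pol_smul_right hQ]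
      module
    have e2 : mvLin G⁻¹ = LinearMap.id - s • Aop + (s * s) • Bop := LinearMap.ext fun z => by
      rw [Matrix.toLin'_apply]
      show mv G⁻¹ z = _
      refine mv_inj G ?_
      rw [mv_mv_inv, hGs]
      simp only [Aop, Bop, r1, LinearMap.add_apply, LinearMap.smul_apply, LinearMap.sub_apply, LinearMap.id_apply,
        LinearMap.smulRight_apply, Orth.formQ_apply, Orth.q_smul hQ, Orth.pol_smul_right hQ,
        Orth.pol_add_left hQ, Orth.pol_sub_left hQ, Orth.pol_smul_left hQ, hcc, huc, hcu, Orth.pol_self hQ u]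
      module
    have := short_conj C hS hG
    rwa [e1, e2] at this
  obtain ⟨l, hl0, hl⟩ := C.hl
  have hX : ∀ s : F, Short f₁ M e
      ((LinearMap.id + s • Aop + (s * s) • Bop).comp (S.comp (LinearMap.id - s • Aop + (s * s) • Bop)) +
        (LinearMap.id + (-s) • Aop + (s * s) • Bop).comp (S.comp (LinearMap.id - (-s) • Aop + (s * s) • Bop)) -
        (2 : F) • S) := fun s => by
    have h1 := conj (-s)
    rw [neg_mul_neg] at h1
    exact ((conj s).add C h1).sub C (short_smul C he hS 2)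
  have h4 := (hX l).sub C (short_smul C he (hX 1) (l * l))
  set κ := 2 * (l * l) * (l * l - 1) * (Q u * Q u * Orth.pol Q (S c) c) with hκ
  have hκ0 : κ ≠ 0 := mul_ne_zero (mul_ne_zero (mul_ne_zero C.h2 (mul_ne_zero hl0 hl0)) (sub_ne_zero.2 hl))
    (mul_ne_zero (mul_ne_zero hu hu) hSc)
  have := short_smul C he h4 κ⁻¹
  convert this using 1
  have hBB : ∀ z, Bop (S (Bop z)) = (Q u * Q u * Orth.pol Q (S c) c) • r1 hQ c z := fun z => by
    simp only [Bop, r1, LinearMap.smul_apply, LinearMap.smulRight_apply, Orth.formQ_apply, map_smul,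
      Orth.pol_smul_left hQ]
    module
  refine LinearMap.ext fun z => ?_
  simp only [LinearMap.smul_apply, LinearMap.sub_apply, LinearMap.add_apply, LinearMap.comp_apply,
    LinearMap.id_apply, map_add, map_sub, map_smul, hBB]
  symm
  rw [inv_smul_eq_iff₀ hκ0, hκ]
  module

/-! ### Centres -/

theorem exists_off_three {γ : Type} [Fintype γ] (C : Ctx f f₁ Q M) (φ₁ φ₂ φ₃ : Module.Dual F (γ → F))
    (h₁ : φ₁ ≠ 0) (h₂ : φ₂ ≠ 0) (h₃ : φ₃ ≠ 0) : ∃ v, φ₁ v ≠ 0 ∧ φ₂ v ≠ 0 ∧ φ₃ v ≠ 0 := by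
  have two : ∀ φ ψ : Module.Dual F (γ → F), φ ≠ 0 → ψ ≠ 0 → ∃ v, φ v ≠ 0 ∧ ψ v ≠ 0 := by
    intro φ ψ hφ hψ
    obtain ⟨a, ha⟩ : ∃ a, φ a ≠ 0 := by by_contra h; push Not at h; exact hφ (LinearMap.ext h)
    obtain ⟨b, hb⟩ : ∃ b, ψ b ≠ 0 := by by_contra h; push Not at h; exact hψ (LinearMap.ext h)
    by_cases h1 : ψ a = 0
    swap
    · exact ⟨a, ha, h1⟩
    by_cases h2 : φ b = 0
    swap
    · exact ⟨b, h2, hb⟩
    exact ⟨a + b, by rwa [map_add, h2, add_zero], by rwa [map_add, h1, zero_add]⟩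
  obtain ⟨x, hx1, hx2⟩ := two φ₁ φ₂ h₁ h₂
  by_cases hx3 : φ₃ x = 0
  swap
  · exact ⟨x, hx1, hx2, hx3⟩
  obtain ⟨y, hy⟩ : ∃ y, φ₃ y ≠ 0 := by by_contra h; push Not at h; exact h₃ (LinearMap.ext h)
  obtain ⟨l, hl0, hl⟩ := C.hl
  have hl1 : l ≠ 1 := fun h => hl (by rw [h, one_mul])
  have hlm : l ≠ -1 := fun h => hl (by rw [h]; ring)
  have hne : (1 : F) ≠ -1 := fun h => C.h2 (by linear_combination h)
  by_contra hcon
  push Not at hcon
  -- three non-zero parameters, two exclusions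
  have bad : ∀ t : F, t ≠ 0 → φ₁ x + t * φ₁ y = 0 ∨ φ₂ x + t * φ₂ y = 0 := fun t ht => by
    by_contra h
    push Not at h
    have := hcon (x + t • y) (by simpa using h.1) (by simpa using h.2)
    rw [map_add, map_smul, hx3, zero_add, smul_eq_mul] at this
    exact mul_ne_zero ht hy this
  have inj : ∀ (φ : Module.Dual F (γ → F)) (s t : F), φ x ≠ 0 → φ x + s * φ y = 0 → φ x + t * φ y = 0 → s = t :=
    fun φ s t hx hs ht => by
      have hy' : φ y ≠ 0 := fun h => hx (by rw [h, mul_zero, add_zero] at hs; exact hs)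
      exact mul_right_cancel₀ hy' (by linear_combination hs - ht)
  rcases bad 1 one_ne_zero with a | a <;> rcases bad (-1) (neg_ne_zero.2 one_ne_zero) with b | b <;>
    rcases bad l hl0 with c | c
  all_goals first
    | exact hne (inj _ _ _ hx1 a b)
    | exact hne (inj _ _ _ hx2 a b)
    | exact hl1 (inj _ _ _ hx1 c a)
    | exact hl1 (inj _ _ _ hx2 c a)
    | exact hlm (inj _ _ _ hx1 c b)
    | exact hlm (inj _ _ _ hx2 c b)

/-- One pure singular centre gives every centre. -/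
theorem eq_all_of_centre [Finite F] (C : Ctx f f₁ Q M) {e : α → F} (he : e ≠ 0) {c₀ : β → F} (hc₀ : c₀ ≠ 0)
    (hc₀Q : Q c₀ = 0) (hC : ten e c₀ ∈ sCentres C.hf M) :
    M = preserving (Units.coeHom (Matrix (α × β) (α × β) F)) f := by
  have hQ := C.hQ
  have h2 := C.h2
  have first : ∀ v w, ten e w ∈ sCentres C.hf M → ten v w ∈ sCentres C.hf M := by
    intro v w hw
    rcases eq_or_ne v 0 with rfl | hv
    · simpa [ten_zero_left] using sCentres_smul C.hf hw 0
    obtain ⟨A, hA, hAe, -⟩ := exists_move_nondeg C.h₁ (nondeg_top C.h₁)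
      (K := preserving (Units.coeHom (Matrix α α F)) f₁) (fun v _ c => stv_mem C.h₁ v c) Submodule.mem_top
      Submodule.mem_top he hv
    have := sCentres_mv C.hf C.le (C.kr_mem A (1 : GL β F) (fun u v => hA u v) mv_one_pol) hw
    rwa [mv_kr_ten, mv_one, hAe] at this
  have move : ∀ a b, Q a = 0 → Q b = 0 → Orth.pol Q a b ≠ 0 → ten e a ∈ sCentres C.hf M →
      ten e b ∈ sCentres C.hf M := by
    intro a b ha hb hab hmem
    have hw : Q (a - b) ≠ 0 := by rw [Orth.q_sub hQ, ha, hb, zero_add, zero_sub]; exact neg_ne_zero.2 hab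
    obtain ⟨G, hG, hGr⟩ := Orth.exists_refl hQ hw
    have := sCentres_mv C.hf C.le (tB_mem C (α := α) hG) hmem
    rwa [tB_ten, hGr.2, show Orth.pol Q a (a - b) / Q (a - b) = 1 by
      rw [Orth.pol_sub_right hQ, Orth.pol_self hQ, ha, Orth.q_sub hQ, ha, hb, mul_zero, zero_sub, zero_add, zero_sub]
      exact div_self (neg_ne_zero.2 hab), one_smul, sub_sub_cancel] at this
  have sing : ∀ v c, Q c = 0 → ten v c ∈ sCentres C.hf M := by
    intro v c hc
    refine first v c ?_
    rcases eq_or_ne c 0 with rfl | hc0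
    · simpa [ten_zero_right] using sCentres_smul C.hf hC 0
    by_cases hb : Orth.pol Q c₀ c = 0
    swap
    · exact move c₀ c hc₀Q hc hb hC
    obtain ⟨a, -, ha, hca⟩ := Orth.exists_partner hQ (Orth.nondeg_top hQ) Submodule.mem_top hc₀ hc₀Q
    obtain ⟨b, -, hb', hcb⟩ := Orth.exists_partner hQ (Orth.nondeg_top hQ) Submodule.mem_top hc0 hc
    by_cases h1 : Orth.pol Q a c = 0
    swap
    · exact move a c ha hc h1 (move c₀ a hc₀Q ha (by rw [hca]; exact one_ne_zero) hC)
    by_cases h3 : Orth.pol Q c₀ b = 0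
    swap
    · exact move b c hb' hc (by rw [Orth.pol_comm, hcb]; exact one_ne_zero) (move c₀ b hc₀Q hb' h3 hC)
    set k := a + b - Orth.pol Q a b • c₀ with hk
    have hc00 : Orth.pol Q c₀ c₀ = 0 := by rw [Orth.pol_self hQ, hc₀Q, mul_zero]
    have hkQ : Q k = 0 := by
      rw [hk, Orth.q_sub hQ, Orth.q_add hQ, Orth.q_smul hQ, ha, hb', hc₀Q, Orth.pol_smul_right hQ,
        Orth.pol_add_left hQ, Orth.pol_comm a c₀, hca, Orth.pol_comm b c₀, h3]
      ring
    have k1 : Orth.pol Q c₀ k = 1 := by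
      rw [hk, Orth.pol_sub_right hQ, Orth.pol_add_right hQ, Orth.pol_smul_right hQ, hca, h3, hc00]; ring
    have k2 : Orth.pol Q k c = 1 := by
      rw [hk, Orth.pol_sub_left hQ, Orth.pol_add_left hQ, Orth.pol_smul_left hQ, h1, Orth.pol_comm b c, hcb, hb]
      ring
    exact move k c hkQ hc (by rw [k2]; exact one_ne_zero)
      (move c₀ k hc₀Q hkQ (by rw [k1]; exact one_ne_zero) hC)
  have pure : ∀ v x, ten v x ∈ sCentres C.hf M := by
    intro v x
    rcases eq_or_ne v 0 with rfl | hv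
    · simpa [ten_zero_left] using sCentres_smul C.hf hC 0
    by_cases hx : Q x = 0
    · exact sing v x hx
    have hx0 : x ≠ 0 := fun h => hx (by rw [h, Orth.q_zero hQ])
    obtain ⟨t, -, ht, hxt⟩ := Orth.exists_singular_not_orth hQ (Orth.nondeg_top hQ)
      (by rw [finrank_top, Module.finrank_pi]; exact C.h3) (Submodule.mem_top (x := x)) hx0
    obtain ⟨c, hcdef⟩ : ∃ c, c = (Q x / Orth.pol Q x t) • t := ⟨_, rfl⟩
    have hc : Q c = 0 := by rw [hcdef, Orth.q_smul hQ, ht, mul_zero]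
    have hxc : Orth.pol Q x c = Q x := by rw [hcdef, Orth.pol_smul_right hQ, div_mul_cancel₀ _ hxt]
    obtain ⟨d, hddef⟩ : ∃ d, d = x - c := ⟨_, rfl⟩
    have hd : Q d = 0 := by rw [hddef, Orth.q_sub hQ, hc, hxc]; ring
    have hcc : Orth.pol Q c c = 0 := by rw [Orth.pol_self hQ, hc, mul_zero]
    have hdd : Orth.pol Q d d = 0 := by rw [Orth.pol_self hQ, hd, mul_zero]
    have hcd : Orth.pol Q c d = Q x := by rw [hddef, Orth.pol_sub_right hQ, Orth.pol_comm, hxc, hcc, sub_zero]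
    have hxsum : x = c + d := by rw [hddef]; abel
    obtain ⟨u, huQ, huc, hud⟩ : ∃ u, Q u ≠ 0 ∧ Orth.pol Q u c = 0 ∧ Orth.pol Q u d = 0 := by
      by_contra hno
      push Not at hno
      have hall : ∀ y, Q y ≠ 0 → Orth.pol Q y c = 0 → Orth.pol Q y d ≠ 0 := hno
      obtain ⟨c₁, d₁, u₁, -, -, -, -, -, hu₁⟩ := exists_hyp C
      set K := LinearMap.ker (LinearMap.pi ![Orth.formQ hQ c, Orth.formQ hQ d]) with hK
      have hKz : ∀ y ∈ K, Q y = 0 := fun y hy => by
        by_contra hyQ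
        exact hall y hyQ (congrFun (LinearMap.mem_ker.1 hy) 0) (congrFun (LinearMap.mem_ker.1 hy) 1)
      have h1 := LinearMap.finrank_range_add_finrank_ker (LinearMap.pi ![Orth.formQ hQ c, Orth.formQ hQ d])
      have h2' := Submodule.finrank_le (LinearMap.range (LinearMap.pi ![Orth.formQ hQ c, Orth.formQ hQ d]))
      rw [Module.finrank_fin_fun] at h2'
      rw [Module.finrank_pi, ← hK] at h1
      obtain ⟨y, hy, hy0⟩ := K.ne_bot_iff.1 (fun hb => by rw [hb, finrank_bot] at h1; have := C.h3; omega)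
      obtain ⟨z, hz⟩ := (hQ.nondegenerate y hy0).1
      apply hz
      have hz' : z - (Orth.pol Q z d / Q x) • c - (Orth.pol Q z c / Q x) • d ∈ K := LinearMap.mem_ker.2 (by
        ext i
        fin_cases i <;>
        · show Orth.pol Q _ _ = 0
          rw [Orth.pol_sub_left hQ, Orth.pol_sub_left hQ, Orth.pol_smul_left hQ, Orth.pol_smul_left hQ]
          simp [hcc, hdd, hcd, Orth.pol_comm d c, hx])
      have e := hKz _ (K.add_mem hz' hy)
      rw [Orth.q_add hQ, hKz _ hz', hKz _ hy, zero_add, zero_add, Orth.pol_sub_left hQ, Orth.pol_sub_left hQ,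
        Orth.pol_smul_left hQ, Orth.pol_smul_left hQ, Orth.pol_comm c y, Orth.pol_comm d y,
        show Orth.pol Q y c = 0 from congrFun (LinearMap.mem_ker.1 hy) 0,
        show Orth.pol Q y d = 0 from congrFun (LinearMap.mem_ker.1 hy) 1, mul_zero, mul_zero, sub_zero, sub_zero] at e
      exact e
    obtain ⟨l, hl0, hl⟩ := C.hl
    obtain ⟨t', ht'0, ht'⟩ : ∃ t' : F, t' ≠ 0 ∧ -(t' * t' * Q u / Q x) + 1 ≠ 0 := by
      by_cases h1 : -(1 * 1 * Q u / Q x) + 1 = 0
      · refine ⟨l, hl0, fun h => hl ?_⟩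
        field_simp at h h1
        exact mul_right_cancel₀ huQ (by linear_combination h1 - h)
      · exact ⟨1, one_ne_zero, h1⟩
    obtain ⟨a, hadef⟩ : ∃ a, a = -(t' * t' * Q u / Q x) := ⟨_, rfl⟩
    rw [← hadef] at ht'
    have ha : a ≠ 0 := hadef ▸ neg_ne_zero.2 (div_ne_zero (mul_ne_zero (mul_ne_zero ht'0 ht'0) huQ) hx)
    obtain ⟨k, hkdef⟩ : ∃ k, k = a • c + d + t' • u := ⟨_, rfl⟩
    have hk : Q k = 0 := by
      rw [hkdef, Orth.q_add hQ, Orth.q_add hQ, Orth.q_smul hQ, Orth.q_smul hQ, Orth.pol_add_left hQ,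
        Orth.pol_smul_left hQ, Orth.pol_smul_left hQ, Orth.pol_smul_right hQ, Orth.pol_smul_right hQ, hc, hd,
        hcd, Orth.pol_comm c u, huc, Orth.pol_comm d u, hud, hadef]
      field_simp
      ring
    have kc : Orth.pol Q c k = Q x := by
      rw [hkdef, Orth.pol_add_right hQ, Orth.pol_add_right hQ, Orth.pol_smul_right hQ, Orth.pol_smul_right hQ,
        hcc, hcd, Orth.pol_comm c u, huc]
      ring
    have kd : Orth.pol Q d k = a * Q x := by
      rw [hkdef, Orth.pol_add_right hQ, Orth.pol_add_right hQ, Orth.pol_smul_right hQ, Orth.pol_smul_right hQ,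
        hdd, Orth.pol_comm d c, hcd, Orth.pol_comm d u, hud]
      ring
    obtain ⟨w₀, hw₀⟩ := (C.h₁.nondegenerate v hv).2
    obtain ⟨w, hwdef⟩ : ∃ w, w = (f₁ v w₀)⁻¹ • w₀ := ⟨_, rfl⟩
    have hvw : f₁ v w = 1 := by rw [hwdef, C.h₁.bilinear.smul_right, inv_mul_cancel₀ hw₀]
    have hwv : f₁ w v = -1 := by rw [C.h₁.skew, hvw]
    have s1 := sCentres_add C.hf C.le (sing v c hc) (sing w k hk) (by rw [C.hpol, hvw, kc, one_mul]; exact hx)
    have s2 := sCentres_add C.hf C.le s1 (sing v d hd) (by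
      rw [C.hf.bilinear.add_left, C.hpol, C.hpol, C.h₁.alternating, hwv, Orth.pol_comm k d, kd, zero_mul,
        zero_add]
      exact mul_ne_zero (neg_ne_zero.2 one_ne_zero) (mul_ne_zero ha hx))
    have s3 := sCentres_add C.hf C.le s2 (sing w (-k) (by rw [Orth.q_neg hQ, hk])) (by
      rw [C.hf.bilinear.add_left, C.hf.bilinear.add_left, C.hpol, C.hpol, C.hpol, C.h₁.alternating, hvw,
        Orth.pol_neg_right hQ, Orth.pol_neg_right hQ, Orth.pol_neg_right hQ, kc, kd,
        show (1 : F) * -Q x + 0 * -Orth.pol Q k k + 1 * -(a * Q x) = -((a + 1) * Q x) by ring]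
      exact neg_ne_zero.2 (mul_ne_zero ht' hx))
    rwa [show ten v c + ten w k + ten v d + ten w (-k) = ten v (c + d) by
      rw [ten_add_right v c d, show ten w (-k) = -ten w k by
        rw [← neg_one_smul F k, ten_smul_right, neg_one_smul]]
      abel, ← hxsum] at s3
  -- sums of pure tensors
  have addp : ∀ p ∈ sCentres C.hf M, ∀ v x, p + ten v x ∈ sCentres C.hf M := by
    intro p hp v x
    set q := ten v x with hq
    by_cases h0 : f p q ≠ 0
    · exact sCentres_add C.hf C.le hp (pure v x) h0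
    push Not at h0
    by_cases hp0 : p = 0
    · rw [hp0, zero_add]; exact pure v x
    by_cases hq0 : q = 0
    · rw [hq0, add_zero]; exact hp
    by_cases hs0 : p + q = 0
    · rw [hs0]; simpa using sCentres_smul C.hf hp 0
    -- a pure tensor off three hyperplanes
    have nz : ∀ y : α × β → F, y ≠ 0 → ∃ a, piv f₁ a y ≠ 0 := fun y hy => by
      by_contra h
      push Not at h
      exact hy (eq_zero_of_piv C h)
    obtain ⟨b1, hb1⟩ := nz p hp0
    obtain ⟨b2, hb2⟩ := nz q hq0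
    obtain ⟨b3, hb3⟩ := nz (p + q) hs0
    obtain ⟨g1, hg1⟩ := (hQ.nondegenerate _ hb1).2
    obtain ⟨g2, hg2⟩ := (hQ.nondegenerate _ hb2).2
    obtain ⟨g3, hg3⟩ := (hQ.nondegenerate _ hb3).2
    let L : (α × β → F) → (β → F) → Module.Dual F (α → F) := fun y z =>
      { toFun := fun a => Orth.pol Q (piv f₁ a y) z
        map_add' := fun a a' => by rw [piv_add C, Orth.pol_add_left hQ]
        map_smul' := fun r a => by rw [piv_smul C, Orth.pol_smul_left hQ]; rfl }
    obtain ⟨a₀, ha1, ha2, ha3⟩ : ∃ a, piv f₁ a p ≠ 0 ∧ piv f₁ a q ≠ 0 ∧ piv f₁ a (p + q) ≠ 0 := by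
      obtain ⟨a, a1, a2, a3⟩ := exists_off_three C (L p g1) (L q g2) (L (p + q) g3)
        (fun h => hg1 (LinearMap.congr_fun h b1)) (fun h => hg2 (LinearMap.congr_fun h b2))
        (fun h => hg3 (LinearMap.congr_fun h b3))
      refine ⟨a, fun h => a1 ?_, fun h => a2 ?_, fun h => a3 ?_⟩ <;>
      · show Orth.pol Q _ _ = 0
        rw [h, Orth.pol_zero_left hQ]
    have fz : ∀ y : β → F, y ≠ 0 → Orth.formQ hQ y ≠ 0 := fun y hy h => by
      obtain ⟨z, hz⟩ := (hQ.nondegenerate y hy).1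
      exact hz (LinearMap.congr_fun h z)
    obtain ⟨z, z1, z2, z3⟩ := exists_off_three C (Orth.formQ hQ (piv f₁ a₀ p)) (Orth.formQ hQ (piv f₁ a₀ q))
      (Orth.formQ hQ (piv f₁ a₀ (p + q))) (fz _ ha1) (fz _ ha2) (fz _ ha3)
    rw [Orth.formQ_apply, Orth.pol_comm] at z1 z2 z3
    rw [← f_ten C] at z1 z2 z3
    set r := ten a₀ z with hr
    have s1 := sCentres_add C.hf C.le hp (pure a₀ z) z1
    have s2 := sCentres_add C.hf C.le s1 (pure v x) (by
      rw [← hq, ← hr, C.hf.bilinear.add_left, h0, zero_add]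
      exact fun h => z2 ((f_eq_zero_comm C.hf).1 h))
    have s3 := sCentres_add C.hf C.le s2 (sCentres_smul C.hf (pure a₀ z) (-1)) (by
      rw [← hq, ← hr, C.hf.bilinear.smul_right, add_right_comm, C.hf.bilinear.add_left, C.hf.alternating,
        add_zero]
      exact mul_ne_zero (neg_ne_zero.2 one_ne_zero) z3)
    rwa [← hq, ← hr, show p + r + q + (-1 : F) • r = p + q by module] at s3
  refine sCentres_eq_univ C.hf C.le fun y => ?_
  rw [eq_sum_ten y]
  induction (Finset.univ : Finset β) using Finset.induction_on with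
  | empty => rw [Finset.sum_empty]; simpa using sCentres_smul C.hf hC 0
  | insert k T hk ih => rw [Finset.sum_insert hk, add_comm]; exact addp _ ih _ _

/-- Outside the whole group the radical members are scalar. -/
theorem short_scalar [Finite F] (C : Ctx f f₁ Q M)
    (hne : M ≠ preserving (Units.coeHom (Matrix (α × β) (α × β) F)) f) {e : α → F} (he : e ≠ 0)
    {S : (β → F) →ₗ[F] β → F} (hS : Short f₁ M e S) : ∃ k : F, S = k • LinearMap.id := by
  obtain ⟨d₀, hd₀⟩ := (C.h₁.nondegenerate e he).1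
  have hde : f₁ ((f₁ d₀ e)⁻¹ • d₀) e = 1 := by rw [C.h₁.bilinear.smul_left, inv_mul_cancel₀ hd₀]
  refine exists_off_cone C (short_symm C hde hS) fun c hc => ?_
  by_contra hSc
  have hc0 : c ≠ 0 := fun h => hSc (by rw [h, Orth.pol_zero_right C.hQ])
  refine hne (eq_all_of_centre C he hc0 hc fun k => ?_)
  obtain ⟨g, hg, hgv⟩ := short_smul C he (short_r1 C he hS hc hSc) k
  refine (congrArg (· ∈ M) (ext_mv fun x => ?_)).mp hg
  rw [hgv, mv_stv, f_ten C]
  simp only [LinearMap.smul_apply, r1, LinearMap.smulRight_apply, Orth.formQ_apply, ten_smul_right, smul_smul]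

end Cfsg.Agent.SympTensor
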