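/-
Members trivial on the flag of a line: their middles are scalar.
-/
import Cfsg.Agent.Lib.SympTensor.Span

set_option autoImplicit false
set_option linter.all false

namespace Cfsg.Agent.SympTensor

open scoped Matrix Kronecker
open Matrix Cfsg.Agent.Transvec Cfsg.Agent.TensorMax
open Cfsg.Agent.TensorMax.U (kr mv_kr_ten)

variable {α β : Type} [Fintype α] [DecidableEq α] [Fintype β] [DecidableEq β] {F : Type*} [Field F]
variable {f : (α × β → F) → (α × β → F) → F} {f₁ : (α → F) → (α → F) → F} {Q : (β → F) → F}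
variable {M : Subgroup (GL (α × β) F)}

/-- Members trivial on the three layers of the flag of a line. -/
structure Rad (f₁ : (α → F) → (α → F) → F) (M : Subgroup (GL (α × β) F)) (e : α → F) (k : GL (α × β) F) :
    Prop where
  mem : k ∈ M
  fix : ∀ q : β → F, mv k (ten e q) = ten e q
  mid : ∀ x, piv f₁ e x = 0 → ∀ v, f₁ v e = 0 → piv f₁ v (mv k x) = piv f₁ v x

/-- The middle of a member of the flag stabiliser. -/
def mm (f₁ : (α → F) → (α → F) → F) (d v : α → F) (k : GL (α × β) F) : (β → F) →ₗ[F] β → F :=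
  (piv f₁ v).comp ((mvLin k).comp (lam d)) - f₁ d v • LinearMap.id

theorem mm_apply (d v : α → F) (k : GL (α × β) F) (p : β → F) :
    mm f₁ d v k p = piv f₁ v (mv k (ten d p)) - f₁ d v • p := by
  simp only [mm, LinearMap.sub_apply, LinearMap.comp_apply, Matrix.toLin'_apply, LinearMap.smul_apply,
    LinearMap.id_apply, lam_apply]

variable {e d : α → F}

theorem Rad.piv_top (C : Ctx f f₁ Q M) {k : GL (α × β) F} (h : Rad f₁ M e k) (x : α × β → F) :
    piv f₁ e (mv k x) = piv f₁ e x := eq_of_pol C fun z => by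
  rw [← f_ten C, ← f_ten C]
  nth_rewrite 1 [← h.fix z]
  exact C.iso h.mem _ _

theorem Rad.piv_mid (C : Ctx f f₁ Q M) (hde : f₁ d e = 1) {k : GL (α × β) F} (h : Rad f₁ M e k) {v : α → F}
    (hv : f₁ v e = 0) (x : α × β → F) :
    piv f₁ v (mv k x) = piv f₁ v x + mm f₁ d v k (piv f₁ e x) := by
  have h0 := h.mid (x - ten d (piv f₁ e x)) (by rw [map_sub, piv_ten C, hde, one_smul, sub_self]) v hv
  rw [mv_sub, map_sub, map_sub, piv_ten C] at h0
  rw [mm_apply]
  linear_combination (norm := module) h0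

theorem Rad.inv (C : Ctx f f₁ Q M) {k : GL (α × β) F} (h : Rad f₁ M e k) : Rad f₁ M e k⁻¹ where
  mem := M.inv_mem h.mem
  fix q := mv_inj k (by rw [mv_mv_inv, h.fix])
  mid x hx v hv := by
    have h0 : piv f₁ e (mv k⁻¹ x) = 0 := by rw [← h.piv_top C, mv_mv_inv, hx]
    have := h.mid _ h0 v hv
    rw [mv_mv_inv] at this
    exact this.symm

theorem Rad.mul (C : Ctx f f₁ Q M) {k k' : GL (α × β) F} (h : Rad f₁ M e k) (h' : Rad f₁ M e k') :
    Rad f₁ M e (k * k') where
  mem := M.mul_mem h.mem h'.mem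
  fix q := by rw [mv_mul, h'.fix, h.fix]
  mid x hx v hv := by rw [mv_mul, h.mid _ (by rw [h'.piv_top C, hx]) v hv, h'.mid x hx v hv]

theorem mid_mul (C : Ctx f f₁ Q M) (hde : f₁ d e = 1) {k k' : GL (α × β) F} (h : Rad f₁ M e k)
    (h' : Rad f₁ M e k') {v : α → F} (hv : f₁ v e = 0) :
    mm f₁ d v (k * k') = mm f₁ d v k + mm f₁ d v k' := LinearMap.ext fun p => by
  rw [LinearMap.add_apply, mm_apply d v (k * k'), mv_mul, h.piv_mid C hde hv, h'.piv_top C, piv_ten C, hde,
    one_smul, mm_apply d v k']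
  abel

theorem mid_inv (C : Ctx f f₁ Q M) (hde : f₁ d e = 1) {k : GL (α × β) F} (h : Rad f₁ M e k) {v : α → F}
    (hv : f₁ v e = 0) : mm f₁ d v k⁻¹ = -mm f₁ d v k := by
  rw [eq_neg_iff_add_eq_zero, add_comm, ← mid_mul C hde h (h.inv C) hv, mul_inv_cancel]
  exact LinearMap.ext fun p => by rw [mm_apply, mv_one, piv_ten C, sub_self, LinearMap.zero_apply]

/-- With vanishing middle a member lies in the radical of the line. -/
theorem Rad.short (C : Ctx f f₁ Q M) (hde : f₁ d e = 1) {k : GL (α × β) F} (h : Rad f₁ M e k)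
    (h0 : ∀ v, f₁ v e = 0 → mm f₁ d v k = 0) :
    ∃ S, Short f₁ M e S ∧ ∀ x, mv k x = x + ten e (S (piv f₁ e x)) := by
  set S : (β → F) →ₗ[F] β → F := -((piv f₁ d).comp ((mvLin k).comp (lam d))) + f₁ d d • LinearMap.id with hS
  have hSv : ∀ p, S p = -piv f₁ d (mv k (ten d p) - ten d p) := fun p => by
    simp only [hS, LinearMap.add_apply, LinearMap.neg_apply, LinearMap.comp_apply, Matrix.toLin'_apply,
      LinearMap.smul_apply, LinearMap.id_apply, lam_apply, map_sub, piv_ten C, C.h₁.alternating, zero_smul,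
      sub_zero, add_zero]
  have key : ∀ x, mv k x = x + ten e (S (piv f₁ e x)) := by
    intro x
    set p := piv f₁ e x with hp
    set x0 := x - ten d p with hx0
    have hx00 : piv f₁ e x0 = 0 := by rw [hx0, map_sub, piv_ten C, hde, one_smul, hp, sub_self]
    have e0 : mv k x0 = x0 := by
      -- products with the three layers
      rw [← sub_eq_zero]
      have hl := mem_line C hde (y := mv k x0 - x0) fun v hv => by rw [map_sub, h.mid x0 hx00 v hv, sub_self]
      rw [hl, neg_eq_zero]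
      have hz : piv f₁ d (mv k x0 - x0) = 0 := eq_of_pol C fun z => by
        rw [Orth.pol_zero_left C.hQ, ← f_ten C, f_sub_left C.hf, sub_eq_zero, C.iso_inv h.mem]
        have hl2 := mem_line C hde (y := mv k⁻¹ (ten d z) - ten d z) fun v hv => by
          rw [map_sub, piv_ten C, (h.inv C).piv_mid C hde hv, piv_ten C, piv_ten C, hde, one_smul,
            mid_inv C hde h hv, h0 v hv]
          simp
        rw [eq_add_of_sub_eq' hl2, C.hf.bilinear.add_right, ← neg_one_smul F (ten e _), C.hf.bilinear.smul_right,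
          f_ten C x0 e, hx00, Orth.pol_zero_left C.hQ, mul_zero, add_zero]
      rw [hz, ten_zero_right]
    have hd : mv k (ten d p) - ten d p = -ten e (piv f₁ d (mv k (ten d p) - ten d p)) :=
      mem_line C hde fun v hv => by
        rw [map_sub, h.piv_mid C hde hv, h0 v hv, LinearMap.zero_apply, add_zero, sub_self]
    have e1 : mv k (ten d p) = ten d p + ten e (S p) := by
      conv_lhs => rw [eq_add_of_sub_eq' hd]
      rw [hSv, ← neg_one_smul F (piv f₁ d _), ten_smul_right, neg_one_smul]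
    rw [show x = x0 + ten d p by rw [hx0]; abel, mv_add, e0, e1]
    abel
  exact ⟨S, ⟨k, h.mem, key⟩, key⟩

/-- The commutator with a member whose middle is pure. -/
theorem bracket (C : Ctx f f₁ Q M) (hde : f₁ d e = 1) {k k' : GL (α × β) F} (hk : Rad f₁ M e k)
    (hk' : Rad f₁ M e k') {u : α → F} (hu : f₁ u e = 0) {N : (β → F) →ₗ[F] β → F}
    (hN : ∀ v, f₁ v e = 0 → mm f₁ d v k' = f₁ u v • N) :
    ∃ S, Short f₁ M e S ∧ ∀ p z,
      Orth.pol Q (S p) z = -(Orth.pol Q (mm f₁ d u k z) (N p) + Orth.pol Q (mm f₁ d u k p) (N z)) := by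
  have he : f₁ e d = -1 := by rw [C.h₁.skew, hde]
  have diff : ∀ x, ∃ c, mv k (mv k' x) - mv k' (mv k x) = ten e c ∧ ∀ z, Orth.pol Q c z =
      -(Orth.pol Q (mm f₁ d u k z) (N (piv f₁ e x)) + Orth.pol Q (mm f₁ d u k (piv f₁ e x)) (N z)) := by
    intro x
    set p := piv f₁ e x with hp
    set a := mv k x - x with ha
    set b := mv k' x - x with hb
    have ha0 : piv f₁ e a = 0 := by rw [ha, map_sub, hk.piv_top C, sub_self]
    have hb0 : piv f₁ e b = 0 := by rw [hb, map_sub, hk'.piv_top C, sub_self]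
    have hdiff : mv k (mv k' x) - mv k' (mv k x) = (mv k b - b) - (mv k' a - a) := by
      rw [ha, hb, mv_sub, mv_sub]; abel
    have hlin : ∀ v, f₁ v e = 0 → piv f₁ v (mv k (mv k' x) - mv k' (mv k x)) = 0 := fun v hv => by
      rw [hdiff, map_sub, map_sub (piv f₁ v) (mv k b) b, map_sub (piv f₁ v) (mv k' a) a, hk.mid b hb0 v hv,
      hk'.mid a ha0 v hv, sub_self, sub_self, sub_zero]
    refine ⟨-piv f₁ d (mv k (mv k' x) - mv k' (mv k x)), ?_, fun z => ?_⟩
    · rw [mem_line C hde hlin, ← neg_one_smul F (piv f₁ d _), ten_smul_right, neg_one_smul, map_neg, piv_ten C, he]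
      simp
    have t1 : ∀ (g : GL (α × β) F) (y : α × β → F), g ∈ M →
        f (mv g y - y) (ten d z) = f y (mv g⁻¹ (ten d z) - ten d z) := fun g y hg => by
      rw [f_sub_left C.hf, f_sub_right C.hf, C.iso_inv hg]
    rw [Orth.pol_neg_left C.hQ, ← f_ten C, hdiff, f_sub_left C.hf, t1 k b hk.mem, t1 k' a hk'.mem]
    -- the two displacements of the outer vector
    set δ := mv k⁻¹ (ten d z) - ten d z with hδ
    set δ' := mv k'⁻¹ (ten d z) - ten d z with hδ'
    have hδ0 : piv f₁ e δ = 0 := by rw [hδ, map_sub, (hk.inv C).piv_top C, sub_self]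
    have hδu : piv f₁ u δ = -mm f₁ d u k z := by
      rw [hδ, map_sub, (hk.inv C).piv_mid C hde hu, piv_ten C e, hde, one_smul, mid_inv C hde hk hu]
      simp
    have hbv := mem_line C hde (y := b - ten u (N p)) fun v hv => by
      rw [map_sub, piv_ten C, hb, map_sub, hk'.piv_mid C hde hv, hN v hv, LinearMap.smul_apply, ← hp]
      abel
    have hδv := mem_line C hde (y := δ' + ten u (N z)) fun v hv => by
      rw [map_add, piv_ten C, hδ', map_sub, (hk'.inv C).piv_mid C hde hv, mid_inv C hde hk' hv, hN v hv,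
        piv_ten C, piv_ten C, hde, one_smul, LinearMap.neg_apply, LinearMap.smul_apply]
      abel
    have e1 : f b δ = Orth.pol Q (mm f₁ d u k z) (N p) := by
      rw [eq_add_of_sub_eq' hbv, C.hf.bilinear.add_left, ← neg_one_smul F (ten e _), C.hf.bilinear.smul_left,
        C.hf.skew (ten u _) δ, f_ten C, hδu, C.hf.skew (ten e _) δ, f_ten C, hδ0, Orth.pol_zero_left C.hQ,
        Orth.pol_neg_left C.hQ]
      ring
    have e2 : f a δ' = -Orth.pol Q (mm f₁ d u k p) (N z) := by
      rw [eq_sub_of_add_eq hδv, f_sub_right C.hf, f_neg_right C.hf, f_ten C, f_ten C, ha0,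
        Orth.pol_zero_left C.hQ, ha, map_sub, hk.piv_mid C hde hu, ← hp]
      simp
    rw [e1, e2]
    ring
  choose c hc hcp using diff
  set S : (β → F) →ₗ[F] β → F :=
    -((piv f₁ d).comp ((mvLin (k * k') - mvLin (k' * k)).comp (lam d))) with hS
  have hSv : ∀ p, S p = c (ten d p) := fun p => by
    simp only [hS, LinearMap.neg_apply, LinearMap.comp_apply, LinearMap.sub_apply, Matrix.toLin'_apply,
      lam_apply]
    show -piv f₁ d (mv (k * k') (ten d p) - mv (k' * k) (ten d p)) = _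
    rw [mv_mul, mv_mul, hc, piv_ten C, he]
    simp
  have hSp : ∀ p z, Orth.pol Q (S p) z =
      -(Orth.pol Q (mm f₁ d u k z) (N p) + Orth.pol Q (mm f₁ d u k p) (N z)) := fun p z => by
    rw [hSv, hcp, piv_ten C, hde, one_smul]
  refine ⟨S, ⟨(k * k') * (k' * k)⁻¹, M.mul_mem (M.mul_mem hk.mem hk'.mem) (M.inv_mem (M.mul_mem hk'.mem hk.mem)),
    fun x => ?_⟩, hSp⟩
  set w := mv (k' * k)⁻¹ x with hw
  have hx : x = mv (k' * k) w := by rw [hw, mv_mv_inv]
  have hxp : piv f₁ e x = piv f₁ e w := by rw [hx, (hk'.mul C hk).piv_top C]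
  have hcw : c w = S (piv f₁ e x) := eq_of_pol C fun z => by rw [hcp, hSp, hxp]
  rw [mv_mul, ← hw, ← hcw, ← hc, mv_mul, ← mv_mul k' k, ← hx]
  abel

theorem shear_iso (C : Ctx f f₁ Q M) {u : α → F} (hu : f₁ u e = 0) (a b : α → F) :
    f₁ (mv (qv C.h₁ e u 0) a) (mv (qv C.h₁ e u 0) b) = f₁ a b :=
  (Subgroup.mul_mem _ (Subgroup.mul_mem _ (stv_mem C.h₁ _ _) (stv_mem C.h₁ _ _)) (stv_mem C.h₁ _ _) :
    qv C.h₁ e u 0 ∈ preserving (Units.coeHom (Matrix α α F)) f₁) a b

/-- The shears of the first factor. -/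
theorem exists_shear (C : Ctx f f₁ Q M) {u : α → F} (hu : f₁ u e = 0) :
    ∃ k, Rad f₁ M e k ∧ ∀ v, f₁ v e = 0 → ∀ d, f₁ d e = 1 → mm f₁ d v k = f₁ u v • LinearMap.id := by
  have hue : f₁ e u = 0 := (f_eq_zero_comm C.h₁).1 hu
  have hev : ∀ v, f₁ v e = 0 → f₁ e v = 0 := fun v hv => (f_eq_zero_comm C.h₁).1 hv
  have key : ∀ a, mv (qv C.h₁ e u 0) a = a + f₁ a e • u + f₁ a u • e := fun a => by
    rw [mv_qv C.h₁ hu, zero_mul, zero_smul, add_zero]
  refine ⟨kr (qv C.h₁ e u 0) 1, ⟨C.kr_mem _ _ (shear_iso C hu) mv_one_pol, fun q => ?_, fun x hx v hv => ?_⟩,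
    fun v hv d hde => LinearMap.ext fun p => ?_⟩
  · rw [mv_kr_ten, mv_one, key, C.h₁.alternating, hue, zero_smul, zero_smul, add_zero, add_zero]
  · have e1 : (piv f₁ v).comp (mvLin (kr (qv C.h₁ e u 0) (1 : GL β F))) =
        piv f₁ v + f₁ u v • piv f₁ e := ext_ten fun a w => by
      rw [LinearMap.comp_apply, Matrix.toLin'_apply]
      show piv f₁ v (mv (kr _ _) (ten a w)) = _
      rw [mv_kr_ten, mv_one, LinearMap.add_apply, LinearMap.smul_apply, piv_ten C, piv_ten C, piv_ten C, key,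
        C.h₁.bilinear.add_left, C.h₁.bilinear.add_left, C.h₁.bilinear.smul_left, C.h₁.bilinear.smul_left, hev v hv]
      module
    have := LinearMap.congr_fun e1 x
    rw [LinearMap.comp_apply, Matrix.toLin'_apply, LinearMap.add_apply, LinearMap.smul_apply, hx, smul_zero,
      add_zero] at this
    exact this
  · rw [mm_apply, mv_kr_ten, mv_one, piv_ten C, key, hde, one_smul, C.h₁.bilinear.add_left,
      C.h₁.bilinear.add_left, C.h₁.bilinear.smul_left, hev v hv, LinearMap.smul_apply, LinearMap.id_apply]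
    module

/-- Conjugation by a transvection isolates one middle. -/
theorem exists_pure (C : Ctx f f₁ Q M) (hde : f₁ d e = 1) {k : GL (α × β) F} (hk : Rad f₁ M e k) {u : α → F}
    (hu : f₁ u e = 0) (hud : f₁ d u = 0) :
    ∃ k', Rad f₁ M e k' ∧ ∀ v, f₁ v e = 0 → mm f₁ d v k' = f₁ u v • mm f₁ d u k := by
  have hue : f₁ e u = 0 := (f_eq_zero_comm C.h₁).1 hu
  set T := tA C u 1 with hT
  have ptop : ∀ y, piv f₁ e (mv T y) = piv f₁ e y := fun y => by
    rw [hT, mv_tA, map_add, map_smul, piv_ten C, hu, zero_smul, smul_zero, add_zero]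
  have pv : ∀ v y, piv f₁ v (mv T y) = piv f₁ v y + f₁ u v • piv f₁ u y := fun v y => by
    rw [hT, mv_tA, map_add, map_smul, piv_ten C, one_smul]
  have hTe : ∀ q : β → F, mv T (ten e q) = ten e q := fun q => by
    rw [hT, mv_tA, piv_ten C, hue, zero_smul, ten_zero_right, smul_zero, add_zero]
  have hTi : ∀ y, piv f₁ e (mv T⁻¹ y) = piv f₁ e y := fun y => by rw [← ptop, mv_mv_inv]
  have hc : Rad f₁ M e (T * k * T⁻¹) := by
    refine ⟨M.mul_mem (M.mul_mem (tA_mem C u 1) hk.mem) (M.inv_mem (tA_mem C u 1)), fun q => ?_, fun x hx v hv => ?_⟩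
    · rw [mv_mul, mv_mul, show mv T⁻¹ (ten e q) = ten e q from mv_inj T (by rw [mv_mv_inv, hTe]), hk.fix, hTe]
    · have h0 : piv f₁ e (mv T⁻¹ x) = 0 := by rw [hTi, hx]
      rw [mv_mul, mv_mul, pv, hk.mid _ h0 v hv, hk.mid _ h0 u hu, ← pv, mv_mv_inv]
  refine ⟨T * k * T⁻¹ * k⁻¹, hc.mul C (hk.inv C), fun v hv => ?_⟩
  rw [mid_mul C hde hc (hk.inv C) hv, mid_inv C hde hk hv]
  refine LinearMap.ext fun p => ?_
  have hfix : mv T⁻¹ (ten d p) = ten d p := mv_inj T (by
    rw [mv_mv_inv, hT, mv_tA, piv_ten C, hud, zero_smul, ten_zero_right, smul_zero, add_zero])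
  simp only [LinearMap.add_apply, LinearMap.neg_apply, LinearMap.smul_apply, mm_apply d v, mv_mul, hfix, pv,
    mm_apply d u, hud, zero_smul, sub_zero]
  abel

/-- A skew conformal map in dimension three vanishes. -/
theorem skew_zero [Finite F] (C : Ctx f f₁ Q M) (hb : Fintype.card β = 3) {N : (β → F) →ₗ[F] β → F}
    (hskew : ∀ x y, Orth.pol Q (N x) y = -Orth.pol Q x (N y)) {k : F}
    (hk : ∀ x y, Orth.pol Q (N x) (N y) = k * Orth.pol Q x y) : N = 0 := by
  have hQ := C.hQ
  have h2 := C.h2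
  obtain ⟨c, d, u, hc, hd, hcd, huc, hud, hu⟩ := exists_hyp C
  have basis := eq_of_hyp C hb hc hd hcd huc hud hu
  have hB : 2 * Q u ≠ 0 := mul_ne_zero h2 hu
  have self : ∀ x, Orth.pol Q (N x) x = 0 := fun x => by
    have := hskew x x
    rw [Orth.pol_comm x] at this
    exact (mul_eq_zero.1 (show (2 : F) * Orth.pol Q (N x) x = 0 by linear_combination this)).resolve_left h2
  have hcc : Orth.pol Q c c = 0 := by rw [Orth.pol_self hQ, hc, mul_zero]
  have hdd : Orth.pol Q d d = 0 := by rw [Orth.pol_self hQ, hd, mul_zero]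
  have hNc : N c = Orth.pol Q (N c) d • c := by
    have e := basis (N c)
    have h0 := hk c c
    rw [hcc, mul_zero] at h0
    rw [self c, zero_smul, add_zero] at e
    rw [e] at h0
    simp only [Orth.pol_add_left hQ, Orth.pol_add_right hQ, Orth.pol_smul_left hQ, Orth.pol_smul_right hQ, hcc,
      huc, Orth.pol_comm c u, Orth.pol_self hQ u, mul_zero, zero_add] at h0
    have : Orth.pol Q (N c) u = 0 := by
      rcases mul_eq_zero.1 h0 with h | h
      · exact (div_eq_zero_iff.1 h).resolve_right hB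
      · exact (div_eq_zero_iff.1 ((mul_eq_zero.1 h).resolve_right hB)).resolve_right hB
    rw [this, zero_div, zero_smul, add_zero] at e
    exact e
  have hNd : N d = Orth.pol Q (N d) c • d := by
    have e := basis (N d)
    have h0 := hk d d
    rw [hdd, mul_zero] at h0
    rw [self d, zero_smul, zero_add] at e
    rw [e] at h0
    simp only [Orth.pol_add_left hQ, Orth.pol_add_right hQ, Orth.pol_smul_left hQ, Orth.pol_smul_right hQ, hdd,
      hud, Orth.pol_comm d u, Orth.pol_self hQ u, mul_zero, zero_add] at h0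
    have : Orth.pol Q (N d) u = 0 := by
      rcases mul_eq_zero.1 h0 with h | h
      · exact (div_eq_zero_iff.1 h).resolve_right hB
      · exact (div_eq_zero_iff.1 ((mul_eq_zero.1 h).resolve_right hB)).resolve_right hB
    rw [this, zero_div, zero_smul, add_zero] at e
    exact e
  have hNu : N u = 0 := by
    rw [basis (N u), hskew u c, hskew u d, hNc, hNd, Orth.pol_smul_right hQ, Orth.pol_smul_right hQ, huc, hud,
      self u]
    simp
  have hk0 : k = 0 := by
    have := hk u u
    rw [hNu, Orth.pol_zero_left hQ, Orth.pol_self hQ] at this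
    exact (mul_eq_zero.1 this.symm).resolve_right hB
  have hα : Orth.pol Q (N c) d = 0 := by
    have h1 := hk c d
    have h2' := hskew d c
    rw [hk0, zero_mul, hNc, hNd, Orth.pol_smul_left hQ, Orth.pol_smul_right hQ, hcd, mul_one, h2',
      Orth.pol_comm d (N c), mul_neg, neg_eq_zero] at h1
    exact mul_self_eq_zero.1 h1
  have hβ : Orth.pol Q (N d) c = 0 := by rw [hskew d c, Orth.pol_comm, hα, neg_zero]
  refine LinearMap.ext fun x => ?_
  rw [basis x, map_add, map_add, map_smul, map_smul, map_smul, hNc, hNd, hNu, hα, hβ]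
  simp

/-- The middles are scalar. -/
theorem mid_scalar [Finite F] (C : Ctx f f₁ Q M) (hb : Fintype.card β = 3)
    (hne : M ≠ preserving (Units.coeHom (Matrix (α × β) (α × β) F)) f) (hde : f₁ d e = 1) {k : GL (α × β) F}
    (hk : Rad f₁ M e k) {v : α → F} (hv : f₁ v e = 0) : ∃ c : F, mm f₁ d v k = c • LinearMap.id := by
  have h2 := C.h2
  have hQ := C.hQ
  have he : f₁ e d = -1 := by rw [C.h₁.skew, hde]
  have he0 : e ≠ 0 := fun h => by
    rw [h, f_zero_right C.h₁] at hde
    exact zero_ne_one hde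
  have main : ∀ u, f₁ u e = 0 → f₁ d u = 0 → ∃ c : F, mm f₁ d u k = c • LinearMap.id := by
    intro u hu hud
    by_cases hu0 : u = 0
    · refine ⟨0, LinearMap.ext fun p => ?_⟩
      rw [mm_apply, hu0, f_zero_right C.h₁, zero_smul, sub_zero, zero_smul, LinearMap.zero_apply]
      simpa using piv_smul C (0 : F) u (mv k (ten d p))
    obtain ⟨E, hE, hEm⟩ := exists_shear C hu
    obtain ⟨S, hS, hSp⟩ := bracket C hde hk hE hu (fun w hw => hEm w hw d hde)
    obtain ⟨s, rfl⟩ := short_scalar C hne he0 hS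
    have symm : ∀ p z, Orth.pol Q (mm f₁ d u k z) p + Orth.pol Q (mm f₁ d u k p) z = -s * Orth.pol Q p z :=
      fun p z => by
      have := hSp p z
      simp only [LinearMap.smul_apply, LinearMap.id_apply, Orth.pol_smul_left hQ] at this
      linear_combination this
    obtain ⟨P, hP, hPm⟩ := exists_pure C hde hk hu hud
    have hu' : f₁ ((s / 2) • u) e = 0 := by rw [C.h₁.bilinear.smul_left, hu, mul_zero]
    obtain ⟨E', hE', hE'm⟩ := exists_shear C hu'
    set N : (β → F) →ₗ[F] β → F := mm f₁ d u k + (s / 2) • LinearMap.id with hN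
    have hskew : ∀ p z, Orth.pol Q (N p) z = -Orth.pol Q p (N z) := fun p z => by
      have := symm p z
      simp only [hN, LinearMap.add_apply, LinearMap.smul_apply, LinearMap.id_apply, Orth.pol_add_left hQ,
        Orth.pol_add_right hQ, Orth.pol_smul_left hQ, Orth.pol_smul_right hQ, Orth.pol_comm p (mm f₁ d u k z)]
      field_simp
      linear_combination (2 : F) * this
    have hPN : Rad f₁ M e (P * E') := hP.mul C hE'
    have hPNm : ∀ w, f₁ w e = 0 → mm f₁ d w (P * E') = f₁ u w • N := fun w hw => by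
      rw [mid_mul C hde hP hE' hw, hPm w hw, hE'm w hw d hde, hN, C.h₁.bilinear.smul_left]
      module
    obtain ⟨z, hz⟩ := (C.h₁.nondegenerate u hu0).2
    obtain ⟨z₁, hz₁⟩ : ∃ z₁, z₁ = (f₁ u z)⁻¹ • z := ⟨_, rfl⟩
    obtain ⟨u', hu'def⟩ : ∃ u', u' = z₁ - f₁ z₁ e • d - f₁ d z₁ • e := ⟨_, rfl⟩
    have hz1 : f₁ u z₁ = 1 := by rw [hz₁, C.h₁.bilinear.smul_right, inv_mul_cancel₀ hz]
    have hu'e : f₁ u' e = 0 := by
      rw [hu'def, f_sub_left C.h₁, f_sub_left C.h₁, C.h₁.bilinear.smul_left, C.h₁.bilinear.smul_left, hde,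
        C.h₁.alternating]
      ring
    have hu'd : f₁ d u' = 0 := by
      rw [hu'def, f_sub_right C.h₁, f_sub_right C.h₁, C.h₁.bilinear.smul_right, C.h₁.bilinear.smul_right, hde,
        C.h₁.alternating]
      ring
    have huu' : f₁ u u' = 1 := by
      rw [hu'def, f_sub_right C.h₁, f_sub_right C.h₁, C.h₁.bilinear.smul_right, C.h₁.bilinear.smul_right, hz1,
        hu, C.h₁.skew u d, hud]
      ring
    obtain ⟨P', hP', hP'm⟩ := exists_pure C hde hPN hu'e hu'd
    obtain ⟨S', hS', hS'p⟩ := bracket C hde hPN hP' hu'e (N := N) (fun w hw => by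
      rw [hP'm w hw, hPNm u' hu'e, huu', one_smul])
    obtain ⟨s', rfl⟩ := short_scalar C hne he0 hS'
    have hN0 : N = 0 := skew_zero C hb hskew (k := -s' / 2) fun x y => by
      have := hS'p x y
      rw [LinearMap.smul_apply, LinearMap.id_apply, Orth.pol_smul_left hQ, hPNm u' hu'e, huu', one_smul,
        Orth.pol_comm (N y)] at this
      field_simp
      linear_combination this
    exact ⟨-(s / 2), (eq_neg_of_add_eq_zero_left hN0).trans (neg_smul _ _).symm⟩
  set u := v - f₁ d v • e with hu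
  obtain ⟨c, hc⟩ := main u (by rw [hu, f_sub_left C.h₁, C.h₁.bilinear.smul_left, hv, C.h₁.alternating]; ring)
    (by rw [hu, f_sub_right C.h₁, C.h₁.bilinear.smul_right, hde]; ring)
  refine ⟨c, LinearMap.ext fun p => ?_⟩
  rw [show v = u + f₁ d v • e by rw [hu]; abel, ← hc, mm_apply, mm_apply, piv_add C, piv_smul C,
    hk.piv_top C, piv_ten C, hde, C.h₁.bilinear.add_right, C.h₁.bilinear.smul_right, hde]
  module

end Cfsg.Agent.SympTensor
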