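/-
The stabiliser of a decomposition of a symplectic space into an alternating space of dimension at least four and
an orthogonal space of dimension three is maximal.
-/
import Cfsg.Agent.Lib.SympTensor.Stab
import Cfsg.Agent.Lib.TensorMax.SMain
import Cfsg.Agent.Lib.Transvec.SympStd

set_option autoImplicit false
set_option linter.all false

namespace Cfsg.Agent.SympTensor

open scoped Matrix Kronecker
open Matrix Cfsg.Agent.Transvec Cfsg.Agent.TensorMax
open Cfsg.Agent.TensorMax.U (kr mv_kr_ten isKron_kr mv_kron_ten isKron_mul isKron_inv)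

variable {α β : Type} [Fintype α] [DecidableEq α] [Fintype β] [DecidableEq β] {F : Type*} [Field F]
variable {f : (α × β → F) → (α × β → F) → F} {f₁ : (α → F) → (α → F) → F} {Q : (β → F) → F}
variable {M : Subgroup (GL (α × β) F)}

theorem exists_dual_pair (C : Ctx f f₁ Q M) {e : α → F} (he : e ≠ 0) : ∃ d, f₁ d e = 1 :=
  TensorMax.S.exists_pair C.h₁ he

theorem mv_conj_tA (C : Ctx f f₁ Q M) (g : GL (α × β) F) (v : α → F) (s : F) (x : α × β → F) :
    mv (g * tA C v s * g⁻¹) x = x + s • mv g (ten v (piv f₁ v (mv g⁻¹ x))) := by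
  rw [mv_mul, mv_mul, mv_tA, mv_add, mv_mv_inv, mv_smul]

theorem pol_adjoint (C : Ctx f f₁ Q M) {g : GL (α × β) F} (hg : g ∈ M) (v w : α → F) (p q : β → F) :
    Orth.pol Q (piv f₁ w (mv g (ten v p))) q = -Orth.pol Q (piv f₁ v (mv g⁻¹ (ten w q))) p := by
  rw [← f_ten C, ← f_ten C, C.iso_inv hg, C.hf.skew]

variable [Finite F]

/-- Two orthogonal images of lines force a product. -/
theorem kron_of_orth (C : Ctx f f₁ Q M) (hb : Fintype.card β = 3)
    (hne : M ≠ preserving (Units.coeHom (Matrix (α × β) (α × β) F)) f) {g : GL (α × β) F} (hg : g ∈ M)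
    {v e : α → F} (hv : v ≠ 0) (he : e ≠ 0) (h0 : ∀ p : β → F, piv f₁ e (mv g (ten v p)) = 0) : IsKron g := by
  have hQ := C.hQ
  obtain ⟨d, hde⟩ := exists_dual_pair C he
  obtain ⟨w, hwv⟩ := exists_dual_pair C hv
  have hed : f₁ e d = -1 := by rw [C.h₁.skew, hde]
  set t := g * tA C v 1 * g⁻¹ with ht
  have htM : t ∈ M := M.mul_mem (M.mul_mem hg (tA_mem C v 1)) (M.inv_mem hg)
  have hfix : ∀ q, mv t (ten e q) = ten e q := fun q => by
    have hz : piv f₁ v (mv g⁻¹ (ten e q)) = 0 := eq_of_pol C fun z => by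
      rw [Orth.pol_zero_left hQ, ← neg_eq_zero, ← pol_adjoint C hg, h0, Orth.pol_zero_left hQ]
    rw [ht, mv_conj_tA, hz, ten_zero_right, mv_zero, smul_zero, add_zero]
  have htk : IsKron t := stab_kron C hb hne hde htM fun p => ⟨p, hfix p⟩
  obtain ⟨A, G, hAG⟩ := mv_kron_ten htk
  have hG : ∀ q : β → F, f₁ (mv A e) d • mv G q = -q := fun q => by
    have := congrArg (piv f₁ d) ((hAG e q).symm.trans (hfix q))
    rwa [piv_ten C, piv_ten C, hed, neg_one_smul] at this
  obtain ⟨c, -, -, -, -, hc⟩ : ∃ c : β → F, c = c ∧ c = c ∧ c = c ∧ c = c ∧ c ≠ 0 := by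
    obtain ⟨c, _, _, -, -, hcd, -, -, -⟩ := exists_hyp C
    exact ⟨c, rfl, rfl, rfl, rfl, fun h => by rw [h, Orth.pol_zero_left hQ] at hcd; exact zero_ne_one hcd⟩
  have hρ : f₁ (mv A e) d ≠ 0 := fun h => hc (by
    have := hG c
    rwa [h, zero_smul, eq_comm, neg_eq_zero] at this)
  set A' : (α → F) → α → F := fun a => (-(f₁ (mv A e) d)⁻¹) • mv A a with hA'
  have hA'v : ∀ a q, mv t (ten a q) = ten (A' a) q := fun a q => by
    have : mv G q = (-(f₁ (mv A e) d)⁻¹) • q := by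
      rw [← inv_smul_smul₀ hρ (mv G q), hG, smul_neg, neg_smul]
    rw [hAG, this, ten_smul_right, hA', ← ten_smul_left]
  obtain ⟨a, ha⟩ : ∃ a, A' a - a ≠ 0 := by
    by_contra hno
    push Not at hno
    have hone : t = 1 := TensorMax.U.ext_ten_mv fun a q => by rw [hA'v, sub_eq_zero.1 (hno a), mv_one]
    have := congrArg (fun k => mv k (mv g (ten w c))) hone
    simp only [ht, mv_conj_tA, mv_inv_mv, piv_ten C, hwv, one_smul, mv_one, add_eq_left] at this
    exact ten_ne_zero hv hc (mv_inj g (this.trans (mv_zero g).symm))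
  set u := A' a - a with hu
  set γ : (β → F) →ₗ[F] β → F := (piv f₁ v).comp ((mvLin g⁻¹).comp (lam a)) with hγ
  have hγv : ∀ p, ten u p = mv g (ten v (γ p)) := fun p => by
    have h := hA'v a p
    rw [ht, mv_conj_tA, one_smul] at h
    simp only [hγ, LinearMap.comp_apply, Matrix.toLin'_apply, lam_apply]
    show _ = mv g (ten v (piv f₁ v (mv g⁻¹ (ten a p))))
    rw [hu, ten_sub_left, ← h, add_sub_cancel_left]
  have hγinj : Function.Injective γ := fun p p' hpp => by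
    have h : ten u p = ten u p' := by rw [hγv, hγv, hpp]
    by_contra hne'
    refine ten_ne_zero ha (sub_ne_zero.2 hne') ?_
    rw [show ten u (p - p') = ten u p - ten u p' from map_sub (lam u) p p', h, sub_self]
  obtain ⟨A₁, hA₁, hA₁v, -⟩ := exists_move_nondeg C.h₁ (nondeg_top C.h₁)
    (K := preserving (Units.coeHom (Matrix α α F)) f₁) (fun x _ c => stv_mem C.h₁ x c) Submodule.mem_top
    Submodule.mem_top hv he
  obtain ⟨A₂, hA₂, hA₂u, -⟩ := exists_move_nondeg C.h₁ (nondeg_top C.h₁)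
    (K := preserving (Units.coeHom (Matrix α α F)) f₁) (fun x _ c => stv_mem C.h₁ x c) Submodule.mem_top
    Submodule.mem_top ha he
  set a₁ := kr A₁ (1 : GL β F)
  set a₂ := kr A₂ (1 : GL β F)
  have hk : IsKron (a₂ * g * a₁⁻¹) := by
    refine stab_kron C hb hne hde (M.mul_mem (M.mul_mem (C.kr_mem A₂ 1 (fun x y => hA₂ x y) mv_one_pol) hg)
      (M.inv_mem (C.kr_mem A₁ 1 (fun x y => hA₁ x y) mv_one_pol))) fun p => ?_
    obtain ⟨p', rfl⟩ := LinearMap.injective_iff_surjective.1 hγinj p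
    refine ⟨p', ?_⟩
    have h1 : mv a₁⁻¹ (ten e (γ p')) = ten v (γ p') := mv_inj a₁ (by
      rw [mv_mv_inv, mv_kr_ten, hA₁v, mv_one])
    rw [mv_mul, mv_mul, h1, ← hγv, mv_kr_ten, hA₂u, mv_one]
  have := isKron_mul (isKron_mul (isKron_inv (isKron_kr A₂ (1 : GL β F))) hk) (isKron_kr A₁ (1 : GL β F))
  rwa [show a₂⁻¹ * (a₂ * g * a₁⁻¹) * a₁ = g by group] at this

/-- Conjugates of transvections fixing a vector of a line are not products. -/
theorem not_kron_conj (C : Ctx f f₁ Q M) (hb : Fintype.card β = 3)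
    (hne : M ≠ preserving (Units.coeHom (Matrix (α × β) (α × β) F)) f) {g : GL (α × β) F} (hg : g ∈ M)
    (hnk : ¬ IsKron g) {v e : α → F} (hv : v ≠ 0) (he : e ≠ 0) {q : β → F} (hq : q ≠ 0)
    (h0 : piv f₁ v (mv g⁻¹ (ten e q)) = 0) : ¬ IsKron (g * tA C v 1 * g⁻¹) := by
  intro hk
  have hQ := C.hQ
  have h2 := C.h2
  obtain ⟨d, hde⟩ := exists_dual_pair C he
  have hed : f₁ e d = -1 := by rw [C.h₁.skew, hde]
  set h := g * tA C v 1 * g⁻¹ with hh
  have hhM : h ∈ M := M.mul_mem (M.mul_mem hg (tA_mem C v 1)) (M.inv_mem hg)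
  have hD : ∀ x, mv h (mv h x) = mv h x + mv h x - x := fun x => by
    rw [hh, mv_conj_tA, mv_conj_tA, mv_add, mv_smul, mv_inv_mv, map_add, map_smul, piv_ten C, C.h₁.alternating]
    simp only [zero_smul, smul_zero, add_zero]
    abel
  obtain ⟨A₀, G₀, hAG⟩ := mv_kron_ten hk
  have hfixq : mv h (ten e q) = ten e q := by
    rw [hh, mv_conj_tA, h0, ten_zero_right, mv_zero, smul_zero, add_zero]
  have hGq : f₁ (mv A₀ e) d • mv G₀ q = -q := by
    have := congrArg (piv f₁ d) ((hAG e q).symm.trans hfixq)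
    rwa [piv_ten C, piv_ten C, hed, neg_one_smul] at this
  obtain ⟨ρ, hρ⟩ : ∃ ρ, ρ = -f₁ (mv A₀ e) d := ⟨_, rfl⟩
  have hρ0 : ρ ≠ 0 := fun h' => hq (by
    rw [h', eq_comm, neg_eq_zero] at hρ
    rwa [hρ, zero_smul, eq_comm, neg_eq_zero] at hGq)
  set A : (α → F) → α → F := fun a => ρ⁻¹ • mv A₀ a with hA
  set G : (β → F) →ₗ[F] β → F := ρ • mvLin G₀ with hGdef
  have hGv : ∀ p, G p = ρ • mv G₀ p := fun p => by
    rw [hGdef, LinearMap.smul_apply, Matrix.toLin'_apply]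
  have hAGv : ∀ a p, mv h (ten a p) = ten (A a) (G p) := fun a p => by
    rw [hAG, hGv, hA, ten_smul_left, ten_smul_right, smul_smul, inv_mul_cancel₀ hρ0, one_smul]
  have hGq' : G q = q := by rw [hGv, hρ, neg_smul, hGq, neg_neg]
  have hAe : A e = e := by
    have h' := (hAGv e q).symm.trans hfixq
    rw [hGq'] at h'
    rw [← sub_eq_zero]
    by_contra hne'
    exact ten_ne_zero hne' hq (by rw [ten_sub_left, h', sub_self])
  have hA2 : ∀ a, A (A a) = A a + A a - a := fun a => by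
    have h' := hD (ten a q)
    rw [hAGv, hAGv, hGq', hGq', ← ten_add_left, ← ten_sub_left] at h'
    rw [← sub_eq_zero]
    by_contra hne'
    exact ten_ne_zero hne' hq (by rw [ten_sub_left, h', sub_self])
  have hG2 : ∀ p, G (G p) = G p + G p - p := fun p => by
    have h' := hD (ten e p)
    rw [hAGv, hAGv, hAe, hAe, ← ten_add_right, show ten e (G p + G p) - ten e p = ten e (G p + G p - p) from
      (map_sub (lam e) _ _).symm] at h'
    rw [← sub_eq_zero]
    by_contra hne'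
    exact ten_ne_zero he hne' (by
      rw [show ten e (G (G p) - (G p + G p - p)) = ten e (G (G p)) - ten e (G p + G p - p) from map_sub (lam e) _ _,
        h', sub_self])
  have hprod : ∀ a p, ten (A a - a) (G p - p) = 0 := fun a p => by
    have h' := hD (ten a p)
    rw [hAGv, hAGv, hA2, hG2] at h'
    simp only [ten_sub_left, ten_add_left, show ∀ (b : α → F) (x y : β → F), ten b (x - y) = ten b x - ten b y from
      fun b x y => map_sub (lam b) x y, ten_add_right] at h'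
    have h'' : (2 : F) • ten (A a - a) (G p - p) = 0 := by
      simp only [ten_sub_left, show ∀ (b : α → F) (x y : β → F), ten b (x - y) = ten b x - ten b y from
        fun b x y => map_sub (lam b) x y]
      linear_combination (norm := module) h'
    exact (smul_eq_zero.1 h'').resolve_left h2
  by_cases hG1 : ∀ p, G p = p
  · -- the line is fixed pointwise
    refine hnk (kron_of_orth C hb hne hg hv he fun p => eq_of_pol C fun z => ?_)
    have hz : piv f₁ v (mv g⁻¹ (ten e z)) = 0 := by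
      have h' : mv h (ten e z) = ten e z := by rw [hAGv, hAe, hG1]
      rw [hh, mv_conj_tA, one_smul, add_eq_left, ← mv_zero g] at h'
      have h'' := mv_inj g h'
      obtain ⟨w, hwv⟩ := exists_dual_pair C hv
      have := congrArg (piv f₁ w) h''
      rw [piv_ten C, map_zero, C.h₁.skew, hwv, neg_smul, one_smul, neg_eq_zero] at this
      exact this
    rw [pol_adjoint C hg, hz, Orth.pol_zero_left hQ, Orth.pol_zero_left hQ, neg_zero]
  push Not at hG1
  obtain ⟨p₀, hp₀⟩ := hG1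
  have hA1 : ∀ a, A a = a := fun a => by
    by_contra hne'
    exact ten_ne_zero (sub_ne_zero.2 hne') (sub_ne_zero.2 hp₀) (hprod a p₀)
  -- a quadratic isometry of the second factor is trivial
  have hiso : ∀ p r, Orth.pol Q (G p) (G r) = Orth.pol Q p r := fun p r => by
    have h' := C.iso hhM (ten d p) (ten e r)
    rwa [hAGv, hAGv, hA1, hA1, C.hpol, C.hpol, hde, one_mul, one_mul] at h'
  set N : (β → F) →ₗ[F] β → F := G - LinearMap.id with hN
  have hskew : ∀ x y, Orth.pol Q (N x) y = -Orth.pol Q x (N y) := fun x y => by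
    have h' := hiso (G x) y
    rw [hG2] at h'
    simp only [hN, LinearMap.sub_apply, LinearMap.id_apply, Orth.pol_sub_left hQ, Orth.pol_sub_right hQ,
      Orth.pol_add_left hQ, hiso] at h' ⊢
    linear_combination -h'
  have hN0 := skew_zero C hb hskew (k := 0) fun x y => by
    rw [zero_mul, hskew]
    simp only [hN, LinearMap.sub_apply, LinearMap.id_apply, map_sub, hG2]
    rw [show G y + G y - y - G y - (G y - y) = 0 by abel, Orth.pol_zero_right hQ, neg_zero]
  exact hp₀ (sub_eq_zero.1 (LinearMap.congr_fun hN0 p₀))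

/-- A member that is not a product gives one with a non-degenerate fixed hyperplane of a line. -/
theorem exists_hyperplane (C : Ctx f f₁ Q M) (hb : Fintype.card β = 3)
    (hne : M ≠ preserving (Units.coeHom (Matrix (α × β) (α × β) F)) f) {e : α → F} (he : e ≠ 0)
    {g : GL (α × β) F} (hg : g ∈ M) (hnk : ¬ IsKron g)
    {v : α → F} (hv : v ≠ 0) {q : β → F} (hq : q ≠ 0) (hvq : piv f₁ v (mv g⁻¹ (ten e q)) = 0)
    (hrk : Q q ≠ 0 → ∀ h ∈ M, (∀ x, mv h⁻¹ x = x + x - mv h x) → piv f₁ e (mv h (ten e q)) = 0 →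
      (∀ p, piv f₁ e (mv h (ten e p)) = 0 → p ∈ Submodule.span F {q}) → False) :
    ∃ h ∈ M, ∃ z₀ : β → F, Q z₀ ≠ 0 ∧ ∃ c : F, c ≠ 0 ∧
      (∀ p, piv f₁ e (mv h (ten e p)) = (c * Orth.pol Q p z₀) • z₀) ∧
      ∀ p, Orth.pol Q p z₀ = 0 → mv h (ten e p) = ten e p := by
  have hQ := C.hQ
  let C1 : GL (α × β) F → (β → F) →ₗ[F] β → F := fun h => (piv f₁ e).comp ((mvLin h).comp (lam e))
  have C1v : ∀ h p, C1 h p = piv f₁ e (mv h (ten e p)) := fun h p => by
    simp only [C1, LinearMap.comp_apply, Matrix.toLin'_apply, lam_apply]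
  let Good : GL (α × β) F → Prop := fun h =>
    h ∈ M ∧ ¬ IsKron h ∧ (∀ x, mv h⁻¹ x = x + x - mv h x) ∧ C1 h q = 0
  have mk : ∀ g ∈ M, ∀ w : α → F, w ≠ 0 → ¬ IsKron g → piv f₁ w (mv g⁻¹ (ten e q)) = 0 →
      Good (g * tA C w 1 * g⁻¹) := by
    intro g hg w hw hnk h0
    refine ⟨M.mul_mem (M.mul_mem hg (tA_mem C w 1)) (M.inv_mem hg), not_kron_conj C hb hne hg hnk hw he hq h0,
      fun x => ?_, ?_⟩
    · rw [show (g * tA C w 1 * g⁻¹)⁻¹ = g * tA C w (-1) * g⁻¹ by rw [← tA_inv C w 1]; group, mv_conj_tA,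
        mv_conj_tA, neg_one_smul, one_smul]
      abel
    · rw [C1v, mv_conj_tA, h0, ten_zero_right, mv_zero, smul_zero, add_zero, piv_line C]
  have hstep : ∀ h, Good h → Good (h * tA C e 1 * h⁻¹) ∧
      ∀ p, mv (h * tA C e 1 * h⁻¹) (ten e p) = ten e p + mv h (ten e (-C1 h p)) := by
    intro h hh
    have hi : ∀ p, piv f₁ e (mv h⁻¹ (ten e p)) = -C1 h p := fun p => by
      rw [hh.2.2.1, map_sub, map_add, piv_line C, add_zero, zero_sub, C1v]
    exact ⟨mk h hh.1 e he hh.2.1 (by rw [hi, hh.2.2.2, neg_zero]), fun p => by rw [mv_conj_tA, hi, one_smul]⟩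
  have hstep' : ∀ h, Good h → ∀ p, C1 (h * tA C e 1 * h⁻¹) p = -C1 h (C1 h p) := fun h hh p => by
    rw [C1v, (hstep h hh).2, map_add, piv_line C, zero_add, ← C1v, map_neg]
  -- stable kernels
  obtain ⟨h, hh, hst⟩ : ∃ h, Good h ∧ ∀ p, C1 h (C1 h p) = 0 → C1 h p = 0 := by
    suffices H : ∀ n h, Good h → 3 ≤ Module.finrank F (LinearMap.ker (C1 h)) + n →
        ∃ h', Good h' ∧ ∀ p, C1 h' (C1 h' p) = 0 → C1 h' p = 0 from H 3 _ (mk g hg v hv hnk hvq) (by omega)
    intro n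
    induction n with
    | zero =>
      intro h hh hle
      exfalso
      have htop : LinearMap.ker (C1 h) = ⊤ := Submodule.eq_top_of_finrank_eq (le_antisymm (Submodule.finrank_le _)
        (by rw [Module.finrank_pi, hb]; omega))
      refine hh.2.1 (kron_of_orth C hb hne hh.1 he he fun p => ?_)
      rw [← C1v]
      exact LinearMap.mem_ker.1 (htop ▸ Submodule.mem_top (x := p))
    | succ n ih =>
      intro h hh hle
      by_cases hst : ∀ p, C1 h (C1 h p) = 0 → C1 h p = 0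
      · exact ⟨h, hh, hst⟩
      push Not at hst
      obtain ⟨p, hp, hp'⟩ := hst
      refine ih _ (hstep h hh).1 ?_
      have hlt : LinearMap.ker (C1 h) < LinearMap.ker (C1 (h * tA C e 1 * h⁻¹)) := by
        refine lt_of_le_of_ne (fun r hr => ?_) fun heq => hp' ?_
        · rw [LinearMap.mem_ker, hstep' h hh, LinearMap.mem_ker.1 hr, map_zero, neg_zero]
        · exact LinearMap.mem_ker.1 (heq.ge (LinearMap.mem_ker.2 (by rw [hstep' h hh, hp, neg_zero])))
      have := Submodule.finrank_lt_finrank_of_lt hlt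
      omega
  have hsym : ∀ p r, Orth.pol Q (C1 h p) r = Orth.pol Q (C1 h r) p := fun p r => by
    rw [C1v, C1v, pol_adjoint C hh.1, hh.2.2.1, map_sub, map_add, piv_line C, add_zero, zero_sub,
      Orth.pol_neg_left hQ, neg_neg]
  set L := C1 h with hL
  obtain ⟨p₁, hp₁⟩ : ∃ p, L p ≠ 0 := by
    by_contra hno
    push Not at hno
    exact hh.2.1 (kron_of_orth C hb hne hh.1 he he fun p => by rw [← C1v]; exact hno p)
  -- the range is a line
  obtain ⟨z₀, hz₀def⟩ : ∃ z, z = L p₁ := ⟨_, rfl⟩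
  have hz₀0 : z₀ ≠ 0 := hz₀def ▸ hp₁
  have hrank : ∀ p, L p ∈ Submodule.span F {z₀} := by
    have h1 := LinearMap.finrank_range_add_finrank_ker L
    rw [Module.finrank_pi, hb] at h1
    have hkq : q ∈ LinearMap.ker L := LinearMap.mem_ker.2 hh.2.2.2
    have hk1 : 1 ≤ Module.finrank F (LinearMap.ker L) :=
      Submodule.one_le_finrank_iff.2 fun hbot => hq (by rw [hbot] at hkq; simpa using hkq)
    by_cases hr : Module.finrank F (LinearMap.range L) ≤ 1
    · intro p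
      have heq : Submodule.span F {z₀} = LinearMap.range L := Submodule.eq_of_le_of_finrank_le
        ((Submodule.span_singleton_le_iff_mem _ _).2 (hz₀def ▸ LinearMap.mem_range_self L p₁))
        (by rw [finrank_span_singleton hz₀0]; exact hr)
      rw [heq]; exact LinearMap.mem_range_self L p
    exfalso
    by_cases hqQ : Q q = 0
    swap
    · refine hrk hqQ h hh.1 hh.2.2.1 (by rw [← C1v]; exact hh.2.2.2) fun p hp => ?_
      have hle : Submodule.span F {q} = LinearMap.ker L := Submodule.eq_of_le_of_finrank_le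
        ((Submodule.span_singleton_le_iff_mem _ _).2 hkq) (by rw [finrank_span_singleton hq]; omega)
      rw [hle, LinearMap.mem_ker, hL, C1v]
      exact hp
    have hker : Module.finrank F (LinearMap.ker (Orth.formQ hQ q)) ≤ 2 := by
      have h2' := LinearMap.finrank_range_add_finrank_ker (Orth.formQ hQ q)
      rw [Module.finrank_pi, hb] at h2'
      obtain ⟨y, hy⟩ := (hQ.nondegenerate q hq).1
      have : 1 ≤ Module.finrank F (LinearMap.range (Orth.formQ hQ q)) :=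
        Submodule.one_le_finrank_iff.2 fun hbot => hy (LinearMap.congr_fun (LinearMap.range_eq_bot.1 hbot) y)
      omega
    have heq : LinearMap.range L = LinearMap.ker (Orth.formQ hQ q) := Submodule.eq_of_le_of_finrank_le (by
      rintro _ ⟨p, rfl⟩
      rw [LinearMap.mem_ker, Orth.formQ_apply, hsym, hh.2.2.2, Orth.pol_zero_left hQ]) (by omega)
    obtain ⟨p, hp⟩ : q ∈ LinearMap.range L := heq.ge (LinearMap.mem_ker.2 (by
      rw [Orth.formQ_apply, Orth.pol_self hQ, hqQ, mul_zero]))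
    have := hst p (by rw [hp]; exact hh.2.2.2)
    exact hq (hp ▸ this)
  obtain ⟨κ, hκ⟩ := Submodule.mem_span_singleton.1 (hrank z₀)
  have hκ0 : κ ≠ 0 := fun h0 => by
    rw [h0, zero_smul, hz₀def] at hκ
    exact hp₁ (hst p₁ hκ.symm)
  have hLp : ∀ p, L p = (κ * Orth.pol Q p z₀ / Orth.pol Q z₀ z₀) • z₀ ∧ Orth.pol Q z₀ z₀ ≠ 0 := by
    have hz : Orth.pol Q z₀ z₀ ≠ 0 := by
      intro h0
      obtain ⟨y, hy⟩ := (hQ.nondegenerate z₀ hz₀0).1
      apply hy
      show Orth.pol Q y z₀ = 0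
      obtain ⟨m, hm⟩ := Submodule.mem_span_singleton.1 (hrank y)
      have := hsym z₀ y
      rw [← hκ, ← hm, Orth.pol_smul_left hQ, Orth.pol_smul_left hQ, h0, mul_zero, Orth.pol_comm] at this
      exact (mul_eq_zero.1 this).resolve_left hκ0
    intro p
    obtain ⟨m, hm⟩ := Submodule.mem_span_singleton.1 (hrank p)
    refine ⟨?_, hz⟩
    have := hsym z₀ p
    rw [← hκ, ← hm, Orth.pol_smul_left hQ, Orth.pol_smul_left hQ, Orth.pol_comm z₀ p] at this
    rw [← hm, this, mul_div_cancel_right₀ _ hz]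
  have hz₀Q : Q z₀ ≠ 0 := fun h0 => (hLp z₀).2 (by rw [Orth.pol_self hQ, h0, mul_zero])
  refine ⟨h * tA C e 1 * h⁻¹, (hstep h hh).1.1, z₀, hz₀Q, -(κ / Orth.pol Q z₀ z₀) * κ,
    mul_ne_zero (neg_ne_zero.2 (div_ne_zero hκ0 (hLp z₀).2)) hκ0, fun p => ?_, fun p hp => ?_⟩
  · rw [← C1v, hstep' h hh, ← hL, (hLp p).1, map_smul, ← hκ, smul_smul, ← neg_smul]
    congr 1
    have := (hLp z₀).2
    field_simp
  · rw [(hstep h hh).2, ← hL, (hLp p).1, hp, mul_zero, zero_div, zero_smul, neg_zero, ten_zero_right, mv_zero,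
      add_zero]

/-- No member fixes a non-degenerate hyperplane of a line while moving the line. -/
theorem false_of_hyperplane (C : Ctx f f₁ Q M)
    (hne : M ≠ preserving (Units.coeHom (Matrix (α × β) (α × β) F)) f) {e : α → F} (he : e ≠ 0)
    {h : GL (α × β) F} (hh : h ∈ M) {z₀ : β → F} (hz₀ : Q z₀ ≠ 0) {c : F} (hc : c ≠ 0)
    (hC : ∀ p, piv f₁ e (mv h (ten e p)) = (c * Orth.pol Q p z₀) • z₀)
    (hfix : ∀ p, Orth.pol Q p z₀ = 0 → mv h (ten e p) = ten e p) : False := by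
  have hQ := C.hQ
  obtain ⟨l, hl0, hl⟩ := C.hl
  have hB : Orth.pol Q z₀ z₀ ≠ 0 := by rw [Orth.pol_self hQ]; exact mul_ne_zero C.h2 hz₀
  obtain ⟨a, ha⟩ : ∃ a, a = ten e z₀ := ⟨_, rfl⟩
  obtain ⟨u, hu⟩ : ∃ u, u = mv h a := ⟨_, rfl⟩
  obtain ⟨κ, hκ⟩ : ∃ κ, κ = c * Orth.pol Q z₀ z₀ := ⟨_, rfl⟩
  have hκ0 : κ ≠ 0 := hκ ▸ mul_ne_zero hc hB
  have hπu : piv f₁ e u = κ • z₀ := by rw [hu, ha, hC, hκ]
  have hπa : piv f₁ e a = 0 := by rw [ha, piv_line C]
  have hπia : piv f₁ e (mv h⁻¹ a) = -(κ • z₀) := eq_of_pol C fun r => by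
    rw [← neg_neg (Orth.pol Q (piv f₁ e (mv h⁻¹ a)) r), ha, ← pol_adjoint C hh, hC, Orth.pol_smul_left hQ,
      Orth.pol_neg_left hQ, Orth.pol_smul_left hQ, hκ, Orth.pol_comm r z₀]
    ring
  have hπiu : piv f₁ e (mv h⁻¹ u) = 0 := by rw [hu, mv_inv_mv, hπa]
  have hfua : f u a = κ * Orth.pol Q z₀ z₀ := by rw [ha, f_ten C, hπu, Orth.pol_smul_left hQ]
  let Perp : (α × β → F) → Prop := fun z => f z a = 0 ∧ f z u = 0
  have hperp : ∀ z, Perp z → Orth.pol Q (piv f₁ e z) z₀ = 0 ∧ Orth.pol Q (piv f₁ e (mv h⁻¹ z)) z₀ = 0 := by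
    intro z hz
    refine ⟨by rw [← f_ten C, ← ha]; exact hz.1, ?_⟩
    rw [← f_ten C, ← ha, ← C.iso hh, mv_mv_inv, ← hu]
    exact hz.2
  have hfixi : ∀ p, Orth.pol Q p z₀ = 0 → mv h⁻¹ (ten e p) = ten e p := fun p hp =>
    mv_inj h (by rw [mv_mv_inv, hfix p hp])
  have hline : ∀ p, Orth.pol Q p z₀ = 0 → Perp (ten e p) := by
    intro p hp
    refine ⟨by rw [ha, C.hpol, C.h₁.alternating, zero_mul], ?_⟩
    rw [hu, ← hfix p hp, C.iso hh, ha, C.hpol, C.h₁.alternating, zero_mul]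
  let Act : GL (α × β) F → F → F → F → F → F → F → Prop := fun g σ τ m₀ m₁ n₀ n₁ =>
    g ∈ M ∧ mv g a = m₀ • a + n₀ • u ∧ mv g u = m₁ • a + n₁ • u ∧
      ∀ z, Perp z → mv g z = z + ten e (σ • piv f₁ e z + τ • piv f₁ e (mv h⁻¹ z))
  have act_mul : ∀ {g g' σ τ m₀ m₁ n₀ n₁ σ' τ' m₀' m₁' n₀' n₁'}, Act g σ τ m₀ m₁ n₀ n₁ →
      Act g' σ' τ' m₀' m₁' n₀' n₁' → Act (g * g') (σ + σ') (τ + τ') (m₀' * m₀ + n₀' * m₁) (m₁' * m₀ + n₁' * m₁)
        (m₀' * n₀ + n₀' * n₁) (m₁' * n₀ + n₁' * n₁) := by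
    rintro g g' σ τ m₀ m₁ n₀ n₁ σ' τ' m₀' m₁' n₀' n₁' ⟨hg, ga, gu, gz⟩ ⟨hg', ga', gu', gz'⟩
    refine ⟨M.mul_mem hg hg', ?_, ?_, fun z hz => ?_⟩
    · rw [mv_mul, ga', mv_add, mv_smul, mv_smul, ga, gu]; module
    · rw [mv_mul, gu', mv_add, mv_smul, mv_smul, ga, gu]; module
    obtain ⟨p1, p2⟩ := hperp z hz
    have hw : Orth.pol Q (σ' • piv f₁ e z + τ' • piv f₁ e (mv h⁻¹ z)) z₀ = 0 := by
      rw [Orth.pol_add_left hQ, Orth.pol_smul_left hQ, Orth.pol_smul_left hQ, p1, p2]; ring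
    rw [mv_mul, gz' z hz, mv_add, gz z hz, gz _ (hline _ hw), hfixi _ hw, piv_line C, smul_zero, smul_zero,
      add_zero, ten_zero_right, add_zero, add_assoc, ← ten_add_right]
    congr 2
    module
  have hX : ∀ s : F, Act (tA C e s) s 0 1 (s * κ) 0 1 := by
    intro s
    refine ⟨tA_mem C e s, ?_, ?_, fun z hz => ?_⟩
    · rw [mv_tA, hπa, ten_zero_right]; module
    · rw [mv_tA, hπu, ten_smul_right, ← ha]; module
    · rw [mv_tA, zero_smul, add_zero, ten_smul_right]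
  have hY : ∀ t : F, Act (h * tA C e t * h⁻¹) 0 t 1 0 (-(t * κ)) 1 := by
    intro t
    refine ⟨M.mul_mem (M.mul_mem hh (tA_mem C e t)) (M.inv_mem hh), ?_, ?_, fun z hz => ?_⟩
    · rw [mv_conj_tA, hπia, ← neg_smul, ten_smul_right, mv_smul, ← ha, ← hu]; module
    · rw [mv_conj_tA, hπiu, ten_zero_right, mv_zero]; module
    · rw [mv_conj_tA, hfix _ (hperp z hz).2, zero_smul, zero_add, ten_smul_right]
  have hW : ∀ m : F, m ≠ 0 → ∃ g, Act g (2 * m / κ) (m⁻¹ / κ) 0 m (-m⁻¹) 0 := by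
    intro m hm
    refine ⟨tA C e (m / κ) * (h * tA C e (m⁻¹ / κ) * h⁻¹) * tA C e (m / κ), ?_⟩
    convert act_mul (act_mul (hX (m / κ)) (hY (m⁻¹ / κ))) (hX (m / κ)) using 1 <;> field_simp <;> ring
  obtain ⟨w1, hw1⟩ := hW l hl0
  obtain ⟨w2, hw2⟩ := hW (-1) (neg_ne_zero.2 one_ne_zero)
  obtain ⟨w3, hw3⟩ := hW 1 one_ne_zero
  obtain ⟨w4, hw4⟩ := hW (-l) (neg_ne_zero.2 hl0)
  have hk : Act (w1 * w2 * tA C e (1 / κ) * (w3 * w4) * tA C e (-1 / κ)) 0 0 1 (l * l - 1) 0 1 := by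
    convert act_mul (act_mul (act_mul (act_mul hw1 hw2) (hX (1 / κ))) (act_mul hw3 hw4)) (hX (-1 / κ)) using 1 <;>
      field_simp <;> ring
  obtain ⟨hkM, hka, hku, hkz⟩ := hk
  obtain ⟨γ, hγ⟩ : ∃ γ, γ = (l * l - 1) / (κ * Orth.pol Q z₀ z₀) := ⟨_, rfl⟩
  have hγ0 : γ ≠ 0 := hγ ▸ div_ne_zero (sub_ne_zero.2 hl) (mul_ne_zero hκ0 hB)
  obtain ⟨k, hk⟩ := short_scalar C hne he (S := γ • r1 hQ z₀) (by
    refine ⟨_, hkM, fun x => ?_⟩
    set D := κ * Orth.pol Q z₀ z₀ with hD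
    have hD0 : D ≠ 0 := mul_ne_zero hκ0 hB
    have hau : f a u = -D := by rw [C.hf.skew, hfua]
    set bu := f x a / D with hbu
    set ba := -(f x u / D) with hba
    set z := x - ba • a - bu • u with hz
    have hzP : Perp z := by
      refine ⟨?_, ?_⟩
      · rw [hz, f_sub_left C.hf, f_sub_left C.hf, C.hf.bilinear.smul_left, C.hf.bilinear.smul_left,
          C.hf.alternating, hfua, hbu, div_mul_cancel₀ _ hD0]
        ring
      · rw [hz, f_sub_left C.hf, f_sub_left C.hf, C.hf.bilinear.smul_left, C.hf.bilinear.smul_left,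
          C.hf.alternating, hau, hba, neg_mul_neg, div_mul_cancel₀ _ hD0]
        ring
    have hx : x = z + ba • a + bu • u := by rw [hz]; abel
    conv_lhs => rw [hx]
    rw [mv_add, mv_add, mv_smul, mv_smul, hkz z hzP, hka, hku, zero_smul, zero_smul, add_zero, ten_zero_right,
      add_zero, LinearMap.smul_apply, r1, LinearMap.smulRight_apply, Orth.formQ_apply, ← f_ten C, ← ha,
      smul_smul, ten_smul_right, ← ha, hγ, hz, hbu]
    module)
  obtain ⟨y, hy, hy0⟩ := (LinearMap.ker (Orth.formQ hQ z₀)).ne_bot_iff.1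
    (LinearMap.ker_ne_bot_of_finrank_lt (by rw [Module.finrank_self, Module.finrank_pi]; have := C.h3; omega))
  rw [LinearMap.mem_ker, Orth.formQ_apply] at hy
  have h1 := LinearMap.congr_fun hk y
  simp only [LinearMap.smul_apply, r1, LinearMap.smulRight_apply, Orth.formQ_apply, hy, zero_smul, smul_zero,
    LinearMap.id_apply] at h1
  have hk0 : k = 0 := (smul_eq_zero.1 h1.symm).resolve_right hy0
  have h2' := LinearMap.congr_fun hk z₀
  simp only [LinearMap.smul_apply, r1, LinearMap.smulRight_apply, Orth.formQ_apply, LinearMap.id_apply, hk0,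
    zero_smul, smul_eq_zero] at h2'
  rcases smul_eq_zero.1 h2' with h | h
  · exact hγ0 h
  rcases smul_eq_zero.1 h with h | h
  · exact hB h
  · exact hz₀ (by rw [h, Orth.q_zero hQ])

/-- Maximality in coordinates. -/
theorem maximal_of (hf : Geo.IsSymplecticForm f) (h₁ : Geo.IsSymplecticForm f₁)
    (hQ : Geo.IsNondegenerateQuadraticForm Q) (hpol : ∀ u w v z, f (ten u w) (ten v z) = f₁ u v * Orth.pol Q w z)
    (h2 : (2 : F) ≠ 0) (hl : ∃ l : F, l ≠ 0 ∧ l * l ≠ 1) (hb : Fintype.card β = 3) (ha : 0 < Fintype.card α)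
    (hgo : ∀ (M : Subgroup (GL (α × β) F)) (C : Ctx f f₁ Q M),
      M ≠ preserving (Units.coeHom (Matrix (α × β) (α × β) F)) f → ∀ g ∈ M, ¬ IsKron g → False)
    {K : Subgroup (GL (α × β) F)} (hK : ∀ g, g ∈ K ↔ IsKron g) :
    Geo.IsMaximalIn (preserving (Units.coeHom (Matrix (α × β) (α × β) F)) f)
      (K ⊓ preserving (Units.coeHom (Matrix (α × β) (α × β) F)) f) := by
  obtain ⟨i⟩ : Nonempty α := Fintype.card_pos_iff.1 ha
  set e : α → F := Pi.single i 1 with hedef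
  have he : e ≠ 0 := by simp [hedef]
  refine ⟨lt_of_le_of_ne inf_le_right fun heq => ?_, fun M hM1 hM2 => ?_⟩
  · have C : Ctx f f₁ Q (preserving (Units.coeHom (Matrix (α × β) (α × β) F)) f) :=
      ⟨hf, h₁, hQ, hpol, h2, hl, by omega, le_rfl, fun x _ hx' => hx'⟩
    obtain ⟨d, hde⟩ := exists_dual_pair C he
    obtain ⟨w, w', _, hwQ, -, hww', -, -, -⟩ := exists_hyp C
    have hg := stv_mem hf (ten e w) 1
    rw [← heq] at hg
    obtain ⟨A, G, hAG⟩ := mv_kron_ten ((hK _).1 hg.1)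
    have hw : w ≠ 0 := fun h => by rw [h, Orth.pol_zero_left hQ] at hww'; exact zero_ne_one hww'
    have hed : f₁ e d = -1 := by rw [h₁.skew, hde]
    have ex : ∀ p, mv (stv hf (ten e w) 1) (ten d p) = ten d p + Orth.pol Q p w • ten e w := fun p => by
      rw [mv_stv, hpol, hde, one_mul, one_mul]
    have e1 := congrArg (piv f₁ d) ((hAG d w).symm.trans (ex w))
    have e2 := congrArg (piv f₁ d) ((hAG d w').symm.trans (ex w'))
    rw [Orth.pol_self hQ, hwQ, mul_zero, zero_smul, add_zero, piv_ten C, piv_ten C, h₁.alternating, zero_smul] at e1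
    have hAd : f₁ (mv A d) d = 0 := (smul_eq_zero.1 e1).resolve_right fun h =>
      hw (mv_inj G (h.trans (mv_zero G).symm))
    rw [map_add, map_smul, piv_ten C, piv_ten C, piv_ten C, hAd, h₁.alternating, hed, Orth.pol_comm, hww',
      zero_smul, zero_smul, zero_add, one_smul, neg_one_smul, eq_comm, neg_eq_zero] at e2
    exact hw e2
  · by_cases hall : ∀ g ∈ M, IsKron g
    · exact Or.inl (le_antisymm (fun g hg => ⟨(hK g).2 (hall g hg), hM2 hg⟩) hM1)
    push Not at hall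
    obtain ⟨g, hg, hnk⟩ := hall
    refine Or.inr ?_
    by_contra hne
    have C : Ctx f f₁ Q M := ⟨hf, h₁, hQ, hpol, h2, hl, by omega, hM2, fun x hx hx' => hM1 ⟨(hK x).2 hx, hx'⟩⟩
    exact hgo M C hne g hg hnk

/-- A first factor of dimension above three. -/
theorem false_of_large (hb : Fintype.card β = 3) (ha : 3 < Fintype.card α) (M : Subgroup (GL (α × β) F))
    (C : Ctx f f₁ Q M) (hne : M ≠ preserving (Units.coeHom (Matrix (α × β) (α × β) F)) f) (g : GL (α × β) F)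
    (hg : g ∈ M) (hnk : ¬ IsKron g) : False := by
  obtain ⟨i⟩ : Nonempty α := Fintype.card_pos_iff.1 (by omega)
  have he : (Pi.single i 1 : α → F) ≠ 0 := by simp
  obtain ⟨q, _, _, hqQ, -, hqd, -, -, -⟩ := exists_hyp C
  have hq : q ≠ 0 := fun h => by rw [h, Orth.pol_zero_left C.hQ] at hqd; exact zero_ne_one hqd
  obtain ⟨v, hv, hvq⟩ : ∃ v : α → F, v ≠ 0 ∧ piv f₁ v (mv g⁻¹ (ten (Pi.single i 1) q)) = 0 := by
    set L : (α → F) →ₗ[F] β → F :=
      { toFun := fun v => piv f₁ v (mv g⁻¹ (ten (Pi.single i 1) q))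
        map_add' := fun a b => piv_add C a b _
        map_smul' := fun r a => piv_smul C r a _ }
    obtain ⟨v, hv, hv0⟩ := (LinearMap.ker L).ne_bot_iff.1
      (LinearMap.ker_ne_bot_of_finrank_lt (by rw [Module.finrank_pi, Module.finrank_pi, hb]; exact ha))
    exact ⟨v, hv0, LinearMap.mem_ker.1 hv⟩
  obtain ⟨h, hh, z₀, hz₀, c, hc, hC, hfix⟩ :=
    exists_hyperplane C hb hne he hg hnk hv hq hvq fun h => absurd hqQ h
  exact false_of_hyperplane C hne he hh hz₀ hc hC hfix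

/-- Maximality in coordinates, the first factor of dimension above three. -/
theorem maximal_std (hf : Geo.IsSymplecticForm f) (h₁ : Geo.IsSymplecticForm f₁)
    (hQ : Geo.IsNondegenerateQuadraticForm Q) (hpol : ∀ u w v z, f (ten u w) (ten v z) = f₁ u v * Orth.pol Q w z)
    (h2 : (2 : F) ≠ 0) (hl : ∃ l : F, l ≠ 0 ∧ l * l ≠ 1) (hb : Fintype.card β = 3) (ha : 3 < Fintype.card α)
    {K : Subgroup (GL (α × β) F)} (hK : ∀ g, g ∈ K ↔ IsKron g) :
    Geo.IsMaximalIn (preserving (Units.coeHom (Matrix (α × β) (α × β) F)) f)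
      (K ⊓ preserving (Units.coeHom (Matrix (α × β) (α × β) F)) f) :=
  maximal_of hf h₁ hQ hpol h2 hl hb (by omega) (false_of_large hb ha) hK

end Cfsg.Agent.SympTensor
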