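/-
The first factor of dimension two: a member fixing an anisotropic point of a line without stabilising any further
point of the line gives a short member that is not scalar.
-/
import Cfsg.Agent.Lib.SympTensor.Main
import Mathlib.LinearAlgebra.Charpoly.Basic

set_option autoImplicit false
set_option linter.all false

namespace Cfsg.Agent.SympTensor

open scoped Matrix Kronecker
open Matrix Cfsg.Agent.Transvec Cfsg.Agent.TensorMax
open Cfsg.Agent.TensorMax.U (kr mv_kr_ten isKron_kr mv_kron_ten isKron_mul isKron_inv)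

variable {α β : Type} [Fintype α] [DecidableEq α] [Fintype β] [DecidableEq β] {F : Type*} [Field F]
variable {f : (α × β → F) → (α × β → F) → F} {f₁ : (α → F) → (α → F) → F} {Q : (β → F) → F}
variable {M : Subgroup (GL (α × β) F)}

/-- A hyperbolic pair spans a factor of dimension two. -/
theorem eq_of_pair (C : Ctx f f₁ Q M) (ha : Fintype.card α = 2) {e d : α → F} (hde : f₁ d e = 1) (u : α → F) :
    u = f₁ u e • d - f₁ u d • e := by
  have hed : f₁ e d = -1 := by rw [C.h₁.skew, hde]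
  have hind : LinearIndependent F ![d, e] := by
    refine LinearIndependent.pair_iff.2 fun s t hst => ?_
    have h1 := congrArg (fun z => f₁ z e) hst
    have h2 := congrArg (fun z => f₁ z d) hst
    simp only [C.h₁.bilinear.add_left, C.h₁.bilinear.smul_left, C.h₁.alternating, hde, hed, f_zero_left C.h₁,
      mul_zero, mul_one, add_zero, zero_add, mul_neg, neg_eq_zero] at h1 h2
    exact ⟨h1, h2⟩
  have htop := hind.span_eq_top_of_card_eq_finrank (by rw [Fintype.card_fin, Module.finrank_pi, ha])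
  obtain ⟨g, hg⟩ := (Submodule.mem_span_range_iff_exists_fun F).1 (htop ▸ Submodule.mem_top (x := u))
  simp only [Fin.sum_univ_two, Matrix.cons_val_zero, Matrix.cons_val_one] at hg
  subst hg
  simp only [C.h₁.bilinear.add_left, C.h₁.bilinear.smul_left, C.h₁.alternating, hde, hed, mul_zero, mul_one,
    add_zero, zero_add, mul_neg, neg_smul, sub_neg_eq_add]

theorem eq_two (C : Ctx f f₁ Q M) (ha : Fintype.card α = 2) {e d : α → F} (hde : f₁ d e = 1) (x : α × β → F) :
    x = ten d (piv f₁ e x) - ten e (piv f₁ d x) := by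
  have hed : f₁ e d = -1 := by rw [C.h₁.skew, hde]
  have h := mem_line C hde (y := x - ten d (piv f₁ e x)) fun v hv => by
    have hv' : v = (-f₁ v d) • e := by
      conv_lhs => rw [eq_of_pair C ha hde v, hv, zero_smul, zero_sub, ← neg_smul]
    rw [hv', piv_smul C, map_sub, piv_ten C, hde, one_smul, sub_self, smul_zero]
  rw [map_sub, piv_ten C, C.h₁.alternating, zero_smul, sub_zero, sub_eq_iff_eq_add] at h
  exact h.trans (by abel)

theorem eq_ten_of_piv (C : Ctx f f₁ Q M) (ha : Fintype.card α = 2) {e d : α → F} (hde : f₁ d e = 1)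
    {y : α × β → F} (hy : piv f₁ e y = 0) : y = ten e (-piv f₁ d y) := by
  conv_lhs => rw [eq_two C ha hde y, hy, ten_zero_right, zero_sub]
  rw [← neg_one_smul F (piv f₁ d y), ← neg_one_smul F (ten e _), ten_smul_right]

variable [Finite F]

/-- Symmetric maps of rank at most two supported by a vector are not scalar unless zero. -/
theorem heis_short (C : Ctx f f₁ Q M) (hb : Fintype.card β = 3)
    (hne : M ≠ preserving (Units.coeHom (Matrix (α × β) (α × β) F)) f) {e : α → F} (he : e ≠ 0) {q w : β → F}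
    {γ : F} {c : GL (α × β) F} (hc : c ∈ M)
    (hcv : ∀ x, mv c x = x + f x (ten e q) • ten e w + (f x (ten e w) + γ * f x (ten e q)) • ten e q) :
    c = 1 ∧ ∀ p, Orth.pol Q p q • w + (Orth.pol Q p w + γ * Orth.pol Q p q) • q = 0 := by
  have hQ := C.hQ
  set S : (β → F) →ₗ[F] β → F := (Orth.formQ hQ q).smulRight w + (Orth.formQ hQ w).smulRight q + γ • r1 hQ q
    with hS
  have hSv : ∀ p, S p = Orth.pol Q p q • w + (Orth.pol Q p w + γ * Orth.pol Q p q) • q := fun p => by
    simp only [hS, r1, LinearMap.add_apply, LinearMap.smul_apply, LinearMap.smulRight_apply, Orth.formQ_apply]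
    module
  have hsh : Short f₁ M e S := ⟨c, hc, fun x => by
    rw [hcv, hSv, ← f_ten C, ← f_ten C, ten_add_right, ten_smul_right, ten_smul_right, add_assoc]⟩
  obtain ⟨k, hk⟩ := short_scalar C hne he hsh
  obtain ⟨p, hp, hp0⟩ := (LinearMap.ker (LinearMap.pi ![Orth.formQ hQ q, Orth.formQ hQ w])).ne_bot_iff.1
    (LinearMap.ker_ne_bot_of_finrank_lt (by rw [Module.finrank_fin_fun, Module.finrank_pi, hb]; norm_num))
  have hp' := LinearMap.mem_ker.1 hp
  have p1 : Orth.pol Q p q = 0 := congrFun hp' 0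
  have p2 : Orth.pol Q p w = 0 := congrFun hp' 1
  have hk0 : k = 0 := by
    have h := LinearMap.congr_fun hk p
    rw [hSv, p1, p2, LinearMap.smul_apply, LinearMap.id_apply, mul_zero, add_zero, zero_smul, zero_smul, add_zero,
      eq_comm, smul_eq_zero] at h
    exact h.resolve_right hp0
  have hS0 : S = 0 := by rw [hk, hk0, zero_smul]
  refine ⟨ext_mv fun x => ?_, fun p => by rw [← hSv, hS0, LinearMap.zero_apply]⟩
  rw [hcv, mv_one, f_ten C, f_ten C, add_assoc, ← ten_smul_right, ← ten_smul_right, ← ten_add_right, ← hSv, hS0,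
    LinearMap.zero_apply, ten_zero_right, add_zero]

/-- A member fixing an anisotropic point and trivial on its orthogonal modulo the point is trivial. -/
theorem heis_trivial (C : Ctx f f₁ Q M) (hb : Fintype.card β = 3) (ha : Fintype.card α = 2)
    (hne : M ≠ preserving (Units.coeHom (Matrix (α × β) (α × β) F)) f) {e d : α → F} (hde : f₁ d e = 1)
    {q : β → F} (hq : Q q ≠ 0) {k : GL (α × β) F} (hk : k ∈ M) (hfix : mv k (ten e q) = ten e q)
    (hmid : ∀ z, f z (ten e q) = 0 → ∃ μ : F, mv k z = z + μ • ten e q) : k = 1 := by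
  have hQ := C.hQ
  have he : e ≠ 0 := fun h => by rw [h, f_zero_right C.h₁] at hde; exact zero_ne_one hde
  obtain ⟨a, hadef⟩ : ∃ a, a = ten e q := ⟨_, rfl⟩
  rw [← hadef] at hfix hmid
  obtain ⟨b, hbdef⟩ : ∃ b, b = (2 * Q q)⁻¹ • ten d q := ⟨_, rfl⟩
  have hba : f b a = 1 := by
    rw [hbdef, hadef, C.hf.bilinear.smul_left, C.hpol, hde, Orth.pol_self hQ, one_mul,
      inv_mul_cancel₀ (mul_ne_zero C.h2 hq)]
  have hab : f a b = -1 := by rw [C.hf.skew, hba]
  obtain ⟨y, hydef⟩ : ∃ y, y = mv k b - b := ⟨_, rfl⟩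
  have hkb : mv k b = b + y := by rw [hydef]; abel
  have hay : f a y = 0 := by
    have h := C.iso hk a b
    rw [hfix, hkb, C.hf.bilinear.add_right] at h
    linear_combination h
  have hya : f y a = 0 := (f_eq_zero_comm C.hf).1 hay
  obtain ⟨γ, hγ⟩ : ∃ γ, γ = -f b y := ⟨_, rfl⟩
  have hkv : ∀ x, mv k x = x + f x a • y + (f x y + γ * f x a) • a := by
    intro x
    obtain ⟨z, hz⟩ : ∃ z, z = x - f x a • b := ⟨_, rfl⟩
    have hza : f z a = 0 := by
      rw [hz, f_sub_left C.hf, C.hf.bilinear.smul_left, hba, mul_one, sub_self]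
    obtain ⟨μ, hμ⟩ := hmid z hza
    have hμy : μ = f z y := by
      have h := C.iso hk z b
      rw [hμ, hkb, C.hf.bilinear.add_left, C.hf.bilinear.add_right, C.hf.bilinear.add_right,
        C.hf.bilinear.smul_left, C.hf.bilinear.smul_left, hab, hay] at h
      linear_combination -h
    have hx : x = z + f x a • b := by rw [hz]; abel
    conv_lhs => rw [hx, mv_add, mv_smul, hμ, hμy, hkb]
    rw [hγ, hz, f_sub_left C.hf, C.hf.bilinear.smul_left]
    module
  -- commute with the transvection at e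
  obtain ⟨w, hw⟩ : ∃ w, w = piv f₁ e y := ⟨_, rfl⟩
  obtain ⟨u, hu⟩ : ∃ u, u = tA C e 1 := ⟨_, rfl⟩
  have hua : mv u a = a := by rw [hu, hadef, mv_tA, piv_line C, ten_zero_right, smul_zero, add_zero]
  have huy : mv u y = y + ten e w := by rw [hu, mv_tA, one_smul, ← hw]
  have haw : f a (ten e w) = 0 := by rw [hadef, C.hpol, C.h₁.alternating, zero_mul]
  have huM : u ∈ M := hu ▸ tA_mem C e 1
  have hk' : ∀ x, mv (u * k * u⁻¹) x = x + f x a • (y + ten e w) + (f x (y + ten e w) + γ * f x a) • a := by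
    intro x
    have e1 : f (mv u⁻¹ x) a = f x a := by rw [← C.iso huM, mv_mv_inv, hua]
    have e2 : f (mv u⁻¹ x) y = f x (y + ten e w) := by rw [← C.iso huM, mv_mv_inv, huy]
    rw [mv_mul, mv_mul, hkv, mv_add, mv_add, mv_smul, mv_smul, mv_mv_inv, hua, huy, e1, e2]
  obtain ⟨γ', hγ'⟩ : ∃ γ', γ' = -f y (ten e w) := ⟨_, rfl⟩
  have hcv : ∀ x, mv (u * k * u⁻¹ * k⁻¹) x =
      x + f x (ten e q) • ten e w + (f x (ten e w) + γ' * f x (ten e q)) • ten e q := by
    intro x
    rw [← hadef]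
    obtain ⟨x', rfl⟩ : ∃ x', x = mv k x' := ⟨mv k⁻¹ x, by rw [mv_mv_inv]⟩
    rw [mv_mul, mv_inv_mv, hk', hkv, hγ']
    simp only [C.hf.bilinear.add_left, C.hf.bilinear.smul_left, C.hf.bilinear.add_right, C.hf.bilinear.smul_right,
      C.hf.alternating, hya, haw, mul_zero, add_zero]
    module
  obtain ⟨-, hS⟩ := heis_short C hb hne he
    (M.mul_mem (M.mul_mem (M.mul_mem huM hk) (M.inv_mem huM)) (M.inv_mem hk)) hcv
  have hwq : Orth.pol Q w q = 0 := by rw [hw, ← f_ten C, ← hadef, hya]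
  have hw0 : w = 0 := eq_of_pol C fun z => by
    have h := congrArg (fun v => Orth.pol Q v q) (hS z)
    simp only [Orth.pol_add_left hQ, Orth.pol_smul_left hQ, Orth.pol_zero_left hQ, hwq, Orth.pol_self hQ] at h
    have h' := congrArg (fun v => Orth.pol Q v q) (hS q)
    simp only [Orth.pol_add_left hQ, Orth.pol_smul_left hQ, Orth.pol_zero_left hQ, hwq, Orth.pol_self hQ,
      Orth.pol_comm q w] at h'
    have hq2 : 2 * Q q ≠ 0 := mul_ne_zero C.h2 hq
    have g0 : γ' = 0 := by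
      refine (mul_eq_zero.1 (show γ' * (2 * Q q * (2 * Q q)) = 0 by linear_combination h')).resolve_right
        (mul_ne_zero hq2 hq2)
    rw [g0] at h
    rw [Orth.pol_zero_left hQ, Orth.pol_comm]
    exact (mul_eq_zero.1 (show Orth.pol Q z w * (2 * Q q) = 0 by linear_combination h)).resolve_right hq2
  have hy' := eq_ten_of_piv C ha hde (hw ▸ hw0 : piv f₁ e y = 0)
  exact (heis_short C hb hne he (q := q) (w := -piv f₁ d y) hk fun x => by rw [hkv, hadef, ← hy']).1

set_option maxHeartbeats 1600000 in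
/-- No member fixes an anisotropic point of a line with no other point of the line returning to it. -/
theorem false_of_plane (C : Ctx f f₁ Q M) (hb : Fintype.card β = 3) (ha : Fintype.card α = 2)
    (hne : M ≠ preserving (Units.coeHom (Matrix (α × β) (α × β) F)) f) {e d : α → F} (hde : f₁ d e = 1)
    {q : β → F} (hq : Q q ≠ 0) {h : GL (α × β) F} (hh : h ∈ M) (hfix : mv h (ten e q) = ten e q)
    (hker : ∀ p p', mv h (ten e p) = ten e p' → p ∈ Submodule.span F {q}) : False := by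
  have hQ := C.hQ
  have h2 := C.h2
  have hed : f₁ e d = -1 := by rw [C.h₁.skew, hde]
  have he : e ≠ 0 := fun h' => by rw [h', f_zero_right C.h₁] at hde; exact zero_ne_one hde
  have hD2 : 2 * Q q ≠ 0 := mul_ne_zero h2 hq
  have hq0 : q ≠ 0 := fun h' => hq (by rw [h', Orth.q_zero hQ])
  obtain ⟨a, hadef⟩ : ∃ a, a = ten e q := ⟨_, rfl⟩
  obtain ⟨b, hbdef⟩ : ∃ b, b = ten d q := ⟨_, rfl⟩
  rw [← hadef] at hfix
  have hba : f b a = 2 * Q q := by rw [hbdef, hadef, C.hpol, hde, one_mul, Orth.pol_self hQ]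
  have hfixi : mv h⁻¹ a = a := mv_inj h (by rw [mv_mv_inv, hfix])
  let Φ : (α × β → F) →ₗ[F] α × β → F :=
    (mvLin h).comp ((lam e).comp ((piv f₁ e).comp (mvLin h⁻¹)))
  have Φv : ∀ x, Φ x = mv h (ten e (piv f₁ e (mv h⁻¹ x))) := fun x => by
    simp only [Φ, LinearMap.comp_apply, Matrix.toLin'_apply, lam_apply]
  obtain ⟨X, hXdef⟩ : ∃ X : F → GL (α × β) F, ∀ t, X t = h * tA C e t * h⁻¹ := ⟨_, fun _ => rfl⟩
  have hXM : ∀ t, X t ∈ M := fun t => hXdef t ▸ M.mul_mem (M.mul_mem hh (tA_mem C e t)) (M.inv_mem hh)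
  have hXv : ∀ t x, mv (X t) x = x + t • Φ x := fun t x => by rw [hXdef, mv_conj_tA, Φv]
  have hXi : (X 1)⁻¹ = X (-1) := by
    rw [hXdef, hXdef, ← tA_inv C e 1]; group
  have hΦa : Φ a = 0 := by rw [Φv, hfixi, hadef, piv_line C, ten_zero_right, mv_zero]
  have hΦperp : ∀ x, f (Φ x) a = 0 := fun x => by
    rw [Φv]
    nth_rewrite 1 [← hfix]
    rw [C.iso hh, hadef, C.hpol, C.h₁.alternating, zero_mul]
  -- the reflection
  obtain ⟨R, hR, hRr⟩ := Orth.exists_refl hQ hq
  obtain ⟨T, hT⟩ : ∃ T, T = (tB R : GL (α × β) F) := ⟨_, rfl⟩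
  have hTM : T ∈ M := hT ▸ tB_mem C hR
  have hRq : mv R q = -q := by
    rw [hRr.2, Orth.pol_self hQ, mul_div_cancel_right₀ _ hq]; module
  have hTa : mv T a = -a := by
    rw [hT, hadef, tB_ten, hRq, ← neg_one_smul F q, ten_smul_right, neg_one_smul]
  have hTb : mv T b = -b := by
    rw [hT, hbdef, tB_ten, hRq, ← neg_one_smul F q, ten_smul_right, neg_one_smul]
  have hTz : ∀ z, f z a = 0 → ∃ μ : F, mv T z = z + μ • a := fun z hz => by
    refine ⟨Orth.pol Q (piv f₁ d z) q / Q q, ?_⟩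
    have hz' : Orth.pol Q (piv f₁ e z) q = 0 := by rw [← f_ten C, ← hadef]; exact hz
    nth_rewrite 1 [eq_two C ha hde z]
    rw [mv_sub, hT, tB_ten, tB_ten, hRr.2, hRr.2, hz', zero_div, zero_smul, sub_zero, hadef]
    rw [sub_eq_add_neg (piv f₁ d z), ten_add_right, ← neg_smul, ten_smul_right]
    linear_combination (norm := module) -(eq_two C ha hde z)
  have hT2 : ∀ x, mv T (mv T x) = x := fun x => by
    rw [← mv_mul, hT, ← tB_mul, refl_invol hQ hRr, tB_one, mv_one]
  have hXa : ∀ t, mv (X t) a = a := fun t => by rw [hXv, hΦa, smul_zero, add_zero]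
  have hcomm : ∀ x, mv T (mv (X 1) x) = mv (X 1) (mv T x) := by
    have hk : X 1 * (T * X (-1) * T) = 1 := by
      refine heis_trivial C hb ha hne hde hq (M.mul_mem (hXM 1) (M.mul_mem (M.mul_mem hTM (hXM _)) hTM)) ?_ ?_
      · rw [← hadef, mv_mul, mv_mul, mv_mul, hTa, ← neg_one_smul F a, mv_smul, hXa, mv_smul, hTa,
          show (-1 : F) • -a = a by module, hXa]
      · rw [← hadef]
        intro z hz
        obtain ⟨μ₁, h₁'⟩ := hTz z hz
        obtain ⟨w, hwdef⟩ : ∃ w, w = mv (X (-1)) z := ⟨_, rfl⟩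
        have hw : f w a = 0 := by
          rw [hwdef]
          nth_rewrite 1 [← hXa (-1)]
          rw [C.iso (hXM _)]; exact hz
        obtain ⟨μ₂, h₂'⟩ := hTz w hw
        refine ⟨μ₂ - μ₁, ?_⟩
        have hback : mv (X 1) w = z := by rw [hwdef, ← hXi, mv_mv_inv]
        rw [mv_mul, mv_mul, mv_mul, h₁', mv_add, mv_smul, hXa, ← hwdef, mv_add, mv_smul, hTa, h₂', mv_add,
          mv_add, mv_smul, mv_smul, ← neg_one_smul F a, mv_smul, hXa, hback]
        module
    intro x
    have := congrArg (fun g => mv g (mv T (mv (X 1) x))) hk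
    simp only [mv_mul, mv_one, hT2] at this
    rw [← hXi, mv_inv_mv] at this
    exact this.symm
  obtain ⟨c, hc⟩ : ∃ c : F, Φ b = c • a := by
    have hy : mv T (mv (X 1) b) = -mv (X 1) b := by rw [hcomm, hTb, ← neg_one_smul F b, mv_smul, neg_one_smul]
    obtain ⟨y, hydef⟩ : ∃ y, y = mv (X 1) b := ⟨_, rfl⟩
    rw [← hydef] at hy
    have key : ∀ v, piv f₁ v y = (Orth.pol Q (piv f₁ v y) q / (2 * Q q)) • q := fun v => by
      have h' := congrArg (piv f₁ v) hy
      rw [hT, piv_tB C, hRr.2, map_neg] at h'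
      apply smul_right_injective (β → F) h2
      show (2 : F) • _ = (2 : F) • _
      rw [smul_smul, show (2 : F) * (Orth.pol Q (piv f₁ v y) q / (2 * Q q)) = Orth.pol Q (piv f₁ v y) q / Q q by
        field_simp]
      linear_combination (norm := module) h'
    have hfy : Orth.pol Q (piv f₁ e y) q = 2 * Q q := by
      rw [← f_ten C, ← hadef, hydef]
      nth_rewrite 1 [← hXa 1]
      rw [C.iso (hXM _), hba]
    refine ⟨-(Orth.pol Q (piv f₁ d y) q / (2 * Q q)), ?_⟩
    have h1 : Φ b = y - b := by rw [hydef, hXv, one_smul]; abel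
    rw [h1]
    conv_lhs => rw [eq_two C ha hde y, key e, key d, hfy, div_self hD2, one_smul, ten_smul_right]
    rw [hadef, hbdef]
    module
  have hc0 : c ≠ 0 := fun h0 => by
    rw [h0, zero_smul, Φv, ← mv_zero h] at hc
    have hp : piv f₁ e (mv h⁻¹ b) = 0 := by
      have h' := congrArg (piv f₁ d) (mv_inj h hc)
      rwa [piv_ten C, hed, map_zero, neg_one_smul, neg_eq_zero] at h'
    apply hD2
    rw [← hba, ← mv_mv_inv h b, eq_ten_of_piv C ha hde hp]
    nth_rewrite 1 [← hfix]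
    rw [C.iso hh, hadef, C.hpol, C.h₁.alternating, zero_mul]
  -- the graph
  obtain ⟨W, hWdef⟩ : ∃ W, W = LinearMap.ker (Orth.formQ hQ q) := ⟨_, rfl⟩
  have memW : ∀ p, p ∈ W ↔ Orth.pol Q p q = 0 := fun p => by rw [hWdef, LinearMap.mem_ker, Orth.formQ_apply]
  have hW2 : Module.finrank F W = 2 := by
    have h1 := LinearMap.finrank_range_add_finrank_ker (Orth.formQ hQ q)
    rw [LinearMap.range_eq_top.2 (LinearMap.surjective (fun h0 => hD2 (by
      have := LinearMap.congr_fun h0 q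
      rwa [Orth.formQ_apply, Orth.pol_self hQ] at this))), finrank_top, Module.finrank_self, Module.finrank_pi,
      hb, ← hWdef] at h1
    omega
  have inW : ∀ x, f x a = 0 → piv f₁ e (mv h⁻¹ x) ∈ W := fun x hx => by
    rw [memW, ← f_ten C, ← hadef]
    nth_rewrite 1 [← hfixi]
    rw [C.iso (M.inv_mem hh)]
    exact hx
  let Ψ : (α → F) → (β → F) →ₗ[F] β → F := fun v => (piv f₁ e).comp ((mvLin h⁻¹).comp (lam v))
  have Ψv : ∀ v p, Ψ v p = piv f₁ e (mv h⁻¹ (ten v p)) := fun v p => by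
    simp only [Ψ, LinearMap.comp_apply, Matrix.toLin'_apply, lam_apply]
  have hΨW : ∀ v, ∀ p ∈ W, Ψ v p ∈ W := fun v p hp => by
    rw [Ψv]
    exact inW _ (by rw [hadef, C.hpol, (memW p).1 hp, mul_zero])
  let Λ : W →ₗ[F] W := (Ψ e).restrict (hΨW e)
  have hΛ : Function.Injective Λ := by
    rw [← LinearMap.ker_eq_bot, Submodule.eq_bot_iff]
    rintro ⟨p, hp⟩ hp0
    have h0 : piv f₁ e (mv h⁻¹ (ten e p)) = 0 := by
      rw [← Ψv]
      exact congrArg Subtype.val (LinearMap.mem_ker.1 hp0)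
    have hh' : mv h (ten e (-piv f₁ d (mv h⁻¹ (ten e p)))) = ten e p := by
      rw [← eq_ten_of_piv C ha hde h0, mv_mv_inv]
    obtain ⟨k, hk⟩ := Submodule.mem_span_singleton.1 (hker _ _ hh')
    rw [← hk, ten_smul_right, mv_smul, ← hadef, hfix, hadef, ← ten_smul_right] at hh'
    have hkp : k • q = p := by
      have h' := congrArg (piv f₁ d) hh'
      rwa [piv_ten C, piv_ten C, hed, neg_one_smul, neg_one_smul, neg_inj] at h'
    have hk0 := (memW p).1 hp
    rw [← hkp, Orth.pol_smul_left hQ, Orth.pol_self hQ] at hk0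
    apply Subtype.ext
    show p = 0
    rw [← hkp, (mul_eq_zero.1 hk0).resolve_right hD2, zero_smul]
  let Λe : W ≃ₗ[F] W := LinearEquiv.ofInjectiveEndo Λ hΛ
  let S : W →ₗ[F] W := -(Λe.symm.toLinearMap.comp ((Ψ d).restrict (hΨW d)))
  let gr : W → α × β → F := fun y => ten d (y : β → F) + ten e (S y : β → F)
  have gr_mem : ∀ y, piv f₁ e (mv h⁻¹ (gr y)) = 0 := by
    intro y
    have h1 : Λ (S y) = -((Ψ d).restrict (hΨW d) y) := by
      show Λ (-(Λe.symm ((Ψ d).restrict (hΨW d) y))) = _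
      rw [map_neg]
      congr 1
      exact Λe.apply_symm_apply _
    have h1' : Ψ e (S y) = -Ψ d y := congrArg Subtype.val h1
    show piv f₁ e (mv h⁻¹ (ten d (y : β → F) + ten e (S y : β → F))) = 0
    rw [mv_add, map_add, ← Ψv, ← Ψv, h1', add_neg_cancel]
  let Perp : (α × β → F) → Prop := fun z => ∀ v, Orth.pol Q (piv f₁ v z) q = 0
  have perp_iff : ∀ z, Perp z ↔ f z a = 0 ∧ f z b = 0 := by
    intro z
    refine ⟨fun hz => ⟨by rw [hadef, f_ten C]; exact hz e, by rw [hbdef, f_ten C]; exact hz d⟩, fun hz v => ?_⟩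
    rw [hadef, f_ten C, hbdef, f_ten C] at hz
    rw [eq_of_pair C ha hde v, piv_sub C, piv_smul C, piv_smul C, Orth.pol_sub_left hQ, Orth.pol_smul_left hQ,
      Orth.pol_smul_left hQ, hz.1, hz.2, mul_zero, mul_zero, sub_zero]
  have gr_perp : ∀ y, Perp (gr y) := fun y v => by
    show Orth.pol Q (piv f₁ v (ten d (y : β → F) + ten e (S y : β → F))) q = 0
    rw [map_add, piv_ten C, piv_ten C, Orth.pol_add_left hQ, Orth.pol_smul_left hQ, Orth.pol_smul_left hQ,
      (memW _).1 y.2, (memW _).1 (S y).2, mul_zero, mul_zero, add_zero]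
  have gr_eq : ∀ z, Perp z → piv f₁ e (mv h⁻¹ z) = 0 → ∃ y, z = gr y := by
    intro z hz hz0
    have hy : piv f₁ e z ∈ W := (memW _).2 (hz e)
    refine ⟨⟨_, hy⟩, ?_⟩
    have hp : -piv f₁ d z ∈ W := W.neg_mem ((memW _).2 (hz d))
    have hz' : z = ten d (piv f₁ e z) + ten e (-piv f₁ d z) := by
      rw [← neg_one_smul F (piv f₁ d z), ten_smul_right, neg_one_smul, ← sub_eq_add_neg]
      exact eq_two C ha hde z
    have h1 : Λ (⟨_, hp⟩ - S ⟨_, hy⟩) = 0 := by
      apply Subtype.ext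
      show Ψ e ((-piv f₁ d z) - (S ⟨_, hy⟩ : β → F)) = 0
      have hg0 := gr_mem ⟨_, hy⟩
      have hz0' := hz0
      rw [hz', mv_add, map_add] at hz0'
      simp only [gr, mv_add, map_add] at hg0
      rw [map_sub, Ψv, Ψv]
      linear_combination (norm := module) hz0' - hg0
    have h2' := congrArg Subtype.val (sub_eq_zero.1 (hΛ (h1.trans (map_zero Λ).symm)))
    simp only at h2'
    nth_rewrite 1 [hz']
    rw [h2']
  obtain ⟨τ, δ, hS2⟩ : ∃ τ δ : F, ∀ y, S (S y) = τ • S y + δ • y := by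
    have hdeg : S.charpoly.natDegree = 2 := by rw [LinearMap.charpoly_natDegree, hW2]
    have hs := S.charpoly.as_sum_range
    rw [hdeg, Finset.sum_range_succ, Finset.sum_range_succ, Finset.sum_range_one] at hs
    have h1 : S.charpoly.coeff 2 = 1 := hdeg ▸ S.charpoly_monic
    have h0 := S.aeval_self_charpoly
    rw [hs, h1] at h0
    refine ⟨-S.charpoly.coeff 1, -S.charpoly.coeff 0, fun y => ?_⟩
    have := LinearMap.congr_fun h0 y
    simp [Polynomial.aeval_monomial, Algebra.algebraMap_eq_smul_one, pow_two] at this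
    linear_combination (norm := module) this
  -- an element of the first factor fixing the graph
  obtain ⟨D₀, hD₀⟩ : ∃ D₀, D₀ = τ * τ / 4 + δ := ⟨_, rfl⟩
  obtain ⟨r, β', hβ, hcon⟩ : ∃ r β' : F, β' ≠ 0 ∧ r * r - D₀ * (β' * β') = 1 := by
    obtain ⟨l, hl0, hl⟩ := C.hl
    rcases eq_or_ne D₀ 1 with h1 | h1
    · have hd : 1 - l * l ≠ 0 := sub_ne_zero.2 (Ne.symm hl)
      exact ⟨(1 + l * l) / (1 - l * l), 2 * l / (1 - l * l), div_ne_zero (mul_ne_zero h2 hl0) hd, by
        rw [h1, one_mul, div_mul_div_comm, div_mul_div_comm, div_sub_div_same, div_eq_one_iff_eq (mul_ne_zero hd hd)]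
        ring⟩
    · have hd : 1 - D₀ ≠ 0 := sub_ne_zero.2 (Ne.symm h1)
      exact ⟨(1 + D₀) / (1 - D₀), 2 / (1 - D₀), div_ne_zero h2 hd, by
        rw [div_mul_div_comm, div_mul_div_comm, mul_div_assoc', div_sub_div_same,
          div_eq_one_iff_eq (mul_ne_zero hd hd)]
        ring⟩
  obtain ⟨ε, hε⟩ : ∃ ε, ε = r - β' * τ / 2 := ⟨_, rfl⟩
  obtain ⟨α', hα⟩ : ∃ α', α' = ε + β' * τ := ⟨_, rfl⟩
  have h4 : (4 : F) ≠ 0 := by rw [show (4 : F) = 2 * 2 by norm_num]; exact mul_ne_zero h2 h2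
  have hdet : α' * ε - β' * (β' * δ) = 1 := by
    rw [hα, hε, ← hcon, hD₀]; field_simp; ring
  obtain ⟨g, hg⟩ : ∃ g, g = tA C e ((α' - 1) / β') * tA C d (-β') * tA C e ((ε - 1) / β') := ⟨_, rfl⟩
  have hgM : g ∈ M := hg ▸ M.mul_mem (M.mul_mem (tA_mem C _ _) (tA_mem C _ _)) (tA_mem C _ _)
  have hge : ∀ p, mv g (ten e p) = α' • ten e p + β' • ten d p := by
    intro p
    rw [hg, mv_mul, mv_mul]
    simp only [mv_tA, map_add, map_smul, piv_ten C, hde, hed, C.h₁.alternating, zero_smul, one_smul, smul_zero,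
      add_zero, zero_add, ten_smul_right, ten_zero_right, ten_add_right,
      smul_smul]
    match_scalars <;> field_simp <;> ring
  have hgd : ∀ p, mv g (ten d p) = (β' * δ) • ten e p + ε • ten d p := by
    intro p
    rw [hg, mv_mul, mv_mul]
    simp only [mv_tA, map_add, map_smul, piv_ten C, hde, hed, C.h₁.alternating, zero_smul, one_smul, smul_zero,
      add_zero, zero_add, ten_smul_right, ten_zero_right, ten_add_right,
      smul_smul]
    match_scalars <;> field_simp <;> first | ring1 | linear_combination hdet | linear_combination -hdet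
  have hgr : ∀ y, mv g (gr y) = gr (ε • y + β' • S y) := by
    intro y
    show mv g (ten d (y : β → F) + ten e (S y : β → F)) =
      ten d ((ε • y + β' • S y : W) : β → F) + ten e (S (ε • y + β' • S y) : β → F)
    rw [mv_add, hgd, hge, map_add, map_smul, map_smul, hS2]
    simp only [Submodule.coe_add, Submodule.coe_smul, ten_add_right, ten_smul_right, hα]
    module
  have hgsurj : ∀ y, ∃ y', gr y = mv g (gr y') := by
    let A : W →ₗ[F] W := ε • LinearMap.id + β' • S
    have hA : Function.Injective A := fun y y' hyy => by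
      have h' : mv g (gr y) = mv g (gr y') := by
        rw [hgr, hgr]
        exact congrArg gr hyy
      have h'' := congrArg (piv f₁ e) (mv_inj g h')
      simp only [gr, map_add, piv_ten C, C.h₁.alternating, hde, one_smul, zero_smul, add_zero] at h''
      exact Subtype.ext h''
    intro y
    obtain ⟨y', hy'⟩ := LinearMap.injective_iff_surjective.1 hA y
    exact ⟨y', by rw [hgr]; exact congrArg gr hy'.symm⟩
  have hgperp : ∀ z, Perp z → Perp (mv g z) := by
    have h1 : ∀ w s z, Perp z → Perp (mv (tA C w s) z) := fun w s z hz v => by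
      rw [mv_tA, map_add, map_smul, piv_ten C, Orth.pol_add_left hQ, Orth.pol_smul_left hQ, Orth.pol_smul_left hQ,
        hz v, hz w, mul_zero, mul_zero, add_zero]
    intro z hz
    rw [hg, mv_mul, mv_mul]
    exact h1 _ _ _ (h1 _ _ _ (h1 _ _ _ hz))
  have hgiperp : ∀ z, Perp z → Perp (mv g⁻¹ z) := fun z hz => by
    rw [perp_iff] at hz ⊢
    have e1 : mv g a = α' • a + β' • b := by rw [hadef, hbdef, hge]
    have e2 : mv g b = (β' * δ) • a + ε • b := by rw [hadef, hbdef, hgd]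
    constructor
    · rw [← C.iso hgM, mv_mv_inv, e1, C.hf.bilinear.add_right, C.hf.bilinear.smul_right, C.hf.bilinear.smul_right,
        hz.1, hz.2, mul_zero, mul_zero, add_zero]
    · rw [← C.iso hgM, mv_mv_inv, e2, C.hf.bilinear.add_right, C.hf.bilinear.smul_right, C.hf.bilinear.smul_right,
        hz.1, hz.2, mul_zero, mul_zero, add_zero]
  -- the two translations
  let Φ' : (α × β → F) →ₗ[F] α × β → F := (mvLin g).comp (Φ.comp (mvLin g⁻¹))
  have Φ'v : ∀ z, Φ' z = mv g (Φ (mv g⁻¹ z)) := fun z => by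
    simp only [Φ', LinearMap.comp_apply, Matrix.toLin'_apply]
  have hΦgr : ∀ y, Φ (gr y) = 0 := fun y => by rw [Φv, gr_mem, ten_zero_right, mv_zero]
  have hΦim : ∀ z, Perp z → ∃ y, Φ z = gr y := by
    intro z hz
    refine gr_eq _ ?_ (by rw [Φv, mv_inv_mv, piv_line C])
    rw [perp_iff] at hz ⊢
    refine ⟨hΦperp z, ?_⟩
    have e1 : f (mv (X 1) z) (mv (X 1) b) = f z b := C.iso (hXM 1) _ _
    rw [hXv, hXv, one_smul, one_smul, hc, C.hf.bilinear.add_right, C.hf.bilinear.smul_right,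
      C.hf.bilinear.add_left, C.hf.bilinear.add_left, hz.1, hΦperp, zero_add, mul_zero, add_zero] at e1
    linear_combination e1
  have hΦ'gr : ∀ y, Φ' (gr y) = 0 := fun y => by
    obtain ⟨y', hy'⟩ := hgsurj y
    rw [Φ'v, hy', mv_inv_mv, hΦgr, mv_zero]
  have hΦ'im : ∀ z, Perp z → ∃ y, Φ' z = gr y := fun z hz => by
    obtain ⟨y, hy⟩ := hΦim _ (hgiperp z hz)
    exact ⟨_, by rw [Φ'v, hy, hgr]⟩
  obtain ⟨u, hudef⟩ : ∃ u, u = mv g a := ⟨_, rfl⟩
  have hu : u = α' • a + β' • b := by rw [hudef, hadef, hbdef, hge]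
  obtain ⟨κ, hκ⟩ : ∃ κ, κ = β' * c := ⟨_, rfl⟩
  have hκ0 : κ ≠ 0 := hκ ▸ mul_ne_zero hβ hc0
  let Act : GL (α × β) F → F → F → F → F → F → F → Prop := fun k σ τ m₀ m₁ n₀ n₁ =>
    k ∈ M ∧ mv k a = m₀ • a + n₀ • u ∧ mv k u = m₁ • a + n₁ • u ∧
      ∀ z, Perp z → mv k z = z + σ • Φ z + τ • Φ' z
  have act_mul : ∀ {k k' σ τ m₀ m₁ n₀ n₁ σ' τ' m₀' m₁' n₀' n₁'}, Act k σ τ m₀ m₁ n₀ n₁ →
      Act k' σ' τ' m₀' m₁' n₀' n₁' → Act (k * k') (σ + σ') (τ + τ') (m₀' * m₀ + n₀' * m₁) (m₁' * m₀ + n₁' * m₁)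
        (m₀' * n₀ + n₀' * n₁) (m₁' * n₀ + n₁' * n₁) := by
    rintro k k' σ τ m₀ m₁ n₀ n₁ σ' τ' m₀' m₁' n₀' n₁' ⟨hk, ka, ku, kz⟩ ⟨hk', ka', ku', kz'⟩
    refine ⟨M.mul_mem hk hk', ?_, ?_, fun z hz => ?_⟩
    · rw [mv_mul, ka', mv_add, mv_smul, mv_smul, ka, ku]; module
    · rw [mv_mul, ku', mv_add, mv_smul, mv_smul, ka, ku]; module
    obtain ⟨y₁, hy₁⟩ := hΦim z hz
    obtain ⟨y₂, hy₂⟩ := hΦ'im z hz
    have hfix' : ∀ y, mv k (gr y) = gr y := fun y => by
      rw [kz _ (gr_perp y), hΦgr, hΦ'gr, smul_zero, smul_zero, add_zero, add_zero]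
    rw [mv_mul, kz' z hz, mv_add, mv_add, mv_smul, mv_smul, kz z hz, hy₁, hy₂, hfix', hfix']
    module
  have hX : ∀ s : F, Act (X s) s 0 1 (s * κ) 0 1 := by
    intro s
    refine ⟨hXM s, ?_, ?_, fun z hz => ?_⟩
    · rw [hXa]; module
    · rw [hXv, hu, map_add, map_smul, map_smul, hΦa, hc, hκ]; module
    · rw [hXv, zero_smul, add_zero]
  have hY : ∀ t : F, Act (g * X t * g⁻¹) 0 t 1 0 (-(t * κ)) 1 := by
    intro t
    refine ⟨M.mul_mem (M.mul_mem hgM (hXM t)) (M.inv_mem hgM), ?_, ?_, fun z hz => ?_⟩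
    · have hga : mv g⁻¹ a = ε • a - β' • b := mv_inj g (by
        rw [mv_mv_inv, mv_sub, mv_smul, mv_smul, hadef, hbdef, hge, hgd]
        linear_combination (norm := module) (-hdet) • (ten e q : α × β → F))
      rw [mv_mul, mv_mul, hXv, mv_add, mv_mv_inv, hga, map_sub, map_smul, map_smul, hΦa, hc, smul_zero, zero_sub,
        mv_smul, ← neg_one_smul F (β' • c • a), mv_smul, mv_smul, mv_smul, ← hudef, hκ]
      module
    · rw [mv_mul, mv_mul, hudef, mv_inv_mv, hXa, ← hudef]; module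
    · rw [mv_mul, mv_mul, hXv, mv_add, mv_smul, mv_mv_inv, ← Φ'v]; module
  have hWm : ∀ m : F, m ≠ 0 → ∃ k, Act k (2 * m / κ) (m⁻¹ / κ) 0 m (-m⁻¹) 0 := by
    intro m hm
    refine ⟨X (m / κ) * (g * X (m⁻¹ / κ) * g⁻¹) * X (m / κ), ?_⟩
    convert act_mul (act_mul (hX (m / κ)) (hY (m⁻¹ / κ))) (hX (m / κ)) using 1 <;> field_simp <;> ring
  obtain ⟨l, hl0, hl⟩ := C.hl
  obtain ⟨w1, hw1⟩ := hWm l hl0
  obtain ⟨w2, hw2⟩ := hWm (-1) (neg_ne_zero.2 one_ne_zero)
  obtain ⟨w3, hw3⟩ := hWm 1 one_ne_zero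
  obtain ⟨w4, hw4⟩ := hWm (-l) (neg_ne_zero.2 hl0)
  have hk : Act (w1 * w2 * X (1 / κ) * (w3 * w4) * X (-1 / κ)) 0 0 1 (l * l - 1) 0 1 := by
    convert act_mul (act_mul (act_mul (act_mul hw1 hw2) (hX (1 / κ))) (act_mul hw3 hw4)) (hX (-1 / κ)) using 1 <;>
      field_simp <;> ring
  obtain ⟨hkM, hka, hku, hkz⟩ := hk
  obtain ⟨D, hD⟩ : ∃ D, D = β' * (2 * Q q) := ⟨_, rfl⟩
  have hD0 : D ≠ 0 := hD ▸ mul_ne_zero hβ hD2
  have hua : f u a = D := by
    rw [hu, C.hf.bilinear.add_left, C.hf.bilinear.smul_left, C.hf.bilinear.smul_left, C.hf.alternating, hba, hD]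
    ring
  have hau : f a u = -D := by rw [C.hf.skew, hua]
  obtain ⟨k, hk⟩ := short_scalar C hne he (S := ((l * l - 1) / D) • r1 hQ q) (by
    refine ⟨_, hkM, fun x => ?_⟩
    obtain ⟨bu, hbu⟩ : ∃ bu, bu = f x a / D := ⟨_, rfl⟩
    obtain ⟨bb, hbb⟩ : ∃ bb, bb = -(f x u / D) := ⟨_, rfl⟩
    obtain ⟨z, hz⟩ : ∃ z, z = x - bb • a - bu • u := ⟨_, rfl⟩
    have z1 : f z a = 0 := by
      rw [hz, f_sub_left C.hf, f_sub_left C.hf, C.hf.bilinear.smul_left, C.hf.bilinear.smul_left, C.hf.alternating,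
        hua, hbu, div_mul_cancel₀ _ hD0]
      ring
    have z2 : f z u = 0 := by
      rw [hz, f_sub_left C.hf, f_sub_left C.hf, C.hf.bilinear.smul_left, C.hf.bilinear.smul_left, C.hf.alternating,
        hau, hbb, neg_mul_neg, div_mul_cancel₀ _ hD0]
      ring
    have hzP : Perp z := (perp_iff z).2 ⟨z1, by
      have h' := z2
      rw [hu, C.hf.bilinear.add_right, C.hf.bilinear.smul_right, C.hf.bilinear.smul_right, z1, mul_zero,
        zero_add] at h'
      exact (mul_eq_zero.1 h').resolve_left hβ⟩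
    have hx : x = z + bb • a + bu • u := by rw [hz]; abel
    conv_lhs => rw [hx]
    rw [mv_add, mv_add, mv_smul, mv_smul, hkz z hzP, hka, hku, zero_smul, zero_smul, zero_smul, add_zero, add_zero,
      LinearMap.smul_apply, r1, LinearMap.smulRight_apply, Orth.formQ_apply, ← f_ten C, ← hadef, smul_smul,
      ten_smul_right, ← hadef, hz, hbu]
    module)
  obtain ⟨p, hp, hp0⟩ := W.ne_bot_iff.1 fun h0 => by rw [h0, finrank_bot] at hW2; omega
  rw [memW] at hp
  have h1 := LinearMap.congr_fun hk p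
  simp only [LinearMap.smul_apply, r1, LinearMap.smulRight_apply, Orth.formQ_apply, hp, zero_smul, smul_zero,
    LinearMap.id_apply] at h1
  have hk0 : k = 0 := (smul_eq_zero.1 h1.symm).resolve_right hp0
  have h2' := LinearMap.congr_fun hk q
  simp only [LinearMap.smul_apply, r1, LinearMap.smulRight_apply, Orth.formQ_apply, LinearMap.id_apply, hk0,
    zero_smul, Orth.pol_self hQ] at h2'
  rcases smul_eq_zero.1 h2' with h' | h'
  · exact div_ne_zero (sub_ne_zero.2 hl) hD0 h'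
  rcases smul_eq_zero.1 h' with h'' | h''
  · exact hD2 h''
  · exact hq0 h''

/-- An involution which is a product negates a decomposable vector. -/
theorem kron_invol_ten (C : Ctx f f₁ Q M) (hb : Fintype.card β = 3) {e d : α → F} (hde : f₁ d e = 1)
    {k : GL (α × β) F} (hk : IsKron k) (hk2 : k * k = 1) (hk1 : k ≠ 1) :
    ∃ (v : α → F) (p : β → F), v ≠ 0 ∧ p ≠ 0 ∧ mv k (ten v p) = -ten v p := by
  have hed : f₁ e d = -1 := by rw [C.h₁.skew, hde]
  have he : e ≠ 0 := fun h' => by rw [h', f_zero_right C.h₁] at hde; exact zero_ne_one hde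
  haveI : Nonempty β := Fintype.card_pos_iff.1 (by omega)
  obtain ⟨p₀, hp₀⟩ := exists_ne (0 : β → F)
  obtain ⟨A, G, hAG⟩ := mv_kron_ten hk
  have hsq : ∀ a p, ten (mv A (mv A a)) (mv G (mv G p)) = ten a p := fun a p => by
    rw [← hAG, ← hAG, ← mv_mul, hk2, mv_one]
  have hG2 : ∀ p, f₁ (mv A (mv A e)) d • mv G (mv G p) = -p := fun p => by
    have h := congrArg (piv f₁ d) (hsq e p)
    rwa [piv_ten C, piv_ten C, hed, neg_one_smul] at h
  obtain ⟨ρ, hρ⟩ : ∃ ρ, ρ = f₁ (mv A (mv A e)) d := ⟨_, rfl⟩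
  have hρ0 : ρ ≠ 0 := fun h0 => hp₀ (by
    have h := hG2 p₀
    rw [← hρ, h0, zero_smul, eq_comm, neg_eq_zero] at h
    exact h)
  obtain ⟨μ, hμ⟩ : ∃ μ, μ = -ρ⁻¹ := ⟨_, rfl⟩
  have hμ0 : μ ≠ 0 := hμ ▸ neg_ne_zero.2 (inv_ne_zero hρ0)
  have hGμ : ∀ p, mv G (mv G p) = μ • p := fun p => by
    rw [← inv_smul_smul₀ hρ0 (mv G (mv G p)), hρ, hG2, ← hρ, hμ, smul_neg, neg_smul]
  have hAμ : ∀ a, μ • mv A (mv A a) = a := fun a => by
    have h := hsq a p₀
    rw [hGμ, ten_smul_right, ← ten_smul_left] at h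
    rw [← sub_eq_zero]
    by_contra hne'
    exact ten_ne_zero hne' hp₀ (by rw [ten_sub_left, h, sub_self])
  have hdet : (G : Matrix β β F).det * (G : Matrix β β F).det = μ ^ 3 := by
    rw [← Matrix.det_mul, show (G : Matrix β β F) * G = μ • (1 : Matrix β β F) from Matrix.ext_of_mulVec_single
      fun i => by rw [Matrix.smul_mulVec, Matrix.one_mulVec, ← Matrix.mulVec_mulVec]; exact hGμ _,
      Matrix.det_smul, Matrix.det_one, mul_one, hb]
  obtain ⟨γ, hγ⟩ : ∃ γ, γ = (G : Matrix β β F).det / μ := ⟨_, rfl⟩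
  have hγ2 : γ * γ = μ := by rw [hγ, div_mul_div_comm, hdet]; field_simp
  have hγ0 : γ ≠ 0 := fun h0 => hμ0 (by rw [← hγ2, h0, mul_zero])
  let A' : (α → F) →ₗ[F] α → F := γ • mvLin A
  let G' : (β → F) →ₗ[F] β → F := γ⁻¹ • mvLin G
  have A'v : ∀ a, A' a = γ • mv A a := fun a => by simp only [A', LinearMap.smul_apply, Matrix.toLin'_apply]
  have G'v : ∀ p, G' p = γ⁻¹ • mv G p := fun p => by simp only [G', LinearMap.smul_apply, Matrix.toLin'_apply]
  have hkv : ∀ a p, mv k (ten a p) = ten (A' a) (G' p) := fun a p => by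
    rw [hAG, A'v, G'v, ten_smul_left, ten_smul_right, smul_smul, mul_inv_cancel₀ hγ0, one_smul]
  have hA'2 : ∀ a, A' (A' a) = a := fun a => by
    rw [A'v, A'v, mv_smul, smul_smul, hγ2, hAμ]
  have hG'2 : ∀ p, G' (G' p) = p := fun p => by
    rw [G'v, G'v, mv_smul, smul_smul, hGμ, smul_smul, ← hγ2]
    convert one_smul F p using 2
    field_simp
  obtain ⟨v, s, hv, hs, hvs⟩ : ∃ (v : α → F) (s : F), v ≠ 0 ∧ s * s = 1 ∧ A' v = s • v := by
    by_cases h : e + A' e = 0
    · exact ⟨e, -1, he, by ring, by rw [neg_one_smul]; exact eq_neg_of_add_eq_zero_right h⟩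
    · exact ⟨e + A' e, 1, h, one_mul 1, by rw [map_add, hA'2, one_smul, add_comm]⟩
  have hs0 : s ≠ 0 := fun h0 => by rw [h0, mul_zero] at hs; exact zero_ne_one hs
  by_cases hall : ∀ p, s • G' p = p
  · obtain ⟨a, haa⟩ : ∃ a, a - s • A' a ≠ 0 := by
      by_contra hno
      push Not at hno
      refine hk1 (TensorMax.U.ext_ten_mv fun a p => ?_)
      rw [hkv, mv_one]
      have e1 : G' p = s • p := by
        conv_rhs => rw [← hall p]
        rw [smul_smul, hs, one_smul]
      rw [e1, ten_smul_right, ← ten_smul_left, ← (sub_eq_zero.1 (hno a))]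
    refine ⟨a - s • A' a, p₀, haa, hp₀, ?_⟩
    have e1 : G' p₀ = s • p₀ := by
      conv_rhs => rw [← hall p₀]
      rw [smul_smul, hs, one_smul]
    rw [hkv, map_sub, map_smul, hA'2, e1, ten_smul_right, ← ten_smul_left, smul_sub, smul_smul, hs, one_smul,
      ← neg_sub, ten_neg_left]
  · push Not at hall
    obtain ⟨p, hp⟩ := hall
    refine ⟨v, p - s • G' p, hv, sub_ne_zero.2 (Ne.symm hp), ?_⟩
    rw [hkv, hvs, map_sub, map_smul, hG'2, ten_smul_left, ← ten_smul_right, smul_sub, smul_smul, hs, one_smul,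
      ← neg_sub, ← neg_one_smul F (p - _), ten_smul_right, neg_one_smul]

/-- A skew map of an orthogonal space of dimension three has a kernel. -/
theorem skew_kernel (C : Ctx f f₁ Q M) (hb : Fintype.card β = 3) {L : (β → F) →ₗ[F] β → F}
    (hL : ∀ x y, Orth.pol Q (L x) y = -Orth.pol Q (L y) x) : ∃ q, q ≠ 0 ∧ L q = 0 := by
  have hQ := C.hQ
  set N : Matrix β β F := Matrix.of fun i j => Orth.pol Q (L (Pi.single i 1)) (Pi.single j 1) with hN
  have hT : N.transpose = -N := by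
    ext i j
    simp only [hN, Matrix.transpose_apply, Matrix.neg_apply, Matrix.of_apply]
    exact hL _ _
  have hdet : N.det = 0 := by
    have h := congrArg Matrix.det hT
    rw [Matrix.det_transpose, Matrix.det_neg, hb] at h
    exact (mul_eq_zero.1 (show (2 : F) * N.det = 0 by linear_combination h)).resolve_left C.h2
  obtain ⟨v, hv0, hv⟩ := Matrix.exists_vecMul_eq_zero_iff.2 hdet
  refine ⟨v, hv0, eq_of_pol C fun z => ?_⟩
  rw [Orth.pol_zero_left hQ]
  show Orth.pol Q (L v) z = 0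
  have hz : ((Orth.formQ hQ z).comp L) v = 0 := by
    have hl : ∀ j, ((Orth.formQ hQ (Pi.single j 1)).comp L) v = 0 := fun j => by
      rw [pi_eq_sum_univ' v, map_sum]
      have := congrFun hv j
      simp only [Matrix.vecMul, dotProduct, hN, Matrix.of_apply, Pi.zero_apply] at this
      rw [← this]
      refine Finset.sum_congr rfl fun i _ => ?_
      rw [map_smul, LinearMap.comp_apply, Orth.formQ_apply, smul_eq_mul]
    rw [LinearMap.comp_apply, Orth.formQ_apply, Orth.pol_comm]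
    conv_lhs => rw [pi_eq_sum_univ' z]
    have h0 : ∀ j, Orth.pol Q (Pi.single j 1) (L v) = 0 := fun j => by
      have := hl j
      rwa [LinearMap.comp_apply, Orth.formQ_apply, Orth.pol_comm] at this
    show Orth.formQ hQ (L v) _ = 0
    rw [map_sum]
    refine Finset.sum_eq_zero fun j _ => ?_
    rw [map_smul, Orth.formQ_apply, h0, smul_zero]
  rwa [LinearMap.comp_apply, Orth.formQ_apply] at hz

/-- A first factor of dimension two. -/
theorem false_of_two (hb : Fintype.card β = 3) (ha : Fintype.card α = 2) (M : Subgroup (GL (α × β) F))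
    (C : Ctx f f₁ Q M) (hne : M ≠ preserving (Units.coeHom (Matrix (α × β) (α × β) F)) f) (g : GL (α × β) F)
    (hg : g ∈ M) (hnk : ¬ IsKron g) : False := by
  have hQ := C.hQ
  obtain ⟨i⟩ : Nonempty α := Fintype.card_pos_iff.1 (by omega)
  obtain ⟨e, he⟩ : ∃ e : α → F, e ≠ 0 := ⟨Pi.single i 1, by simp⟩
  obtain ⟨d, hde⟩ := exists_dual_pair C he
  obtain ⟨g', hg', hnk', q, hq, q', hq'0, hgq⟩ : ∃ g', g' ∈ M ∧ ¬ IsKron g' ∧ ∃ q : β → F, q ≠ 0 ∧
      ∃ q' : β → F, q' ≠ 0 ∧ mv g' (ten e q) = ten e q' := by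
    obtain ⟨-, -, w, -, -, -, -, -, hw⟩ := exists_hyp C
    have hw0 : w ≠ 0 := fun h => hw (by rw [h, Orth.q_zero hQ])
    obtain ⟨R, hR, hRr⟩ := Orth.exists_refl hQ hw
    obtain ⟨k, hkdef⟩ : ∃ k, k = g⁻¹ * tB R * g := ⟨_, rfl⟩
    have hkM : k ∈ M := hkdef ▸ M.mul_mem (M.mul_mem (M.inv_mem hg) (tB_mem C hR)) hg
    have hR2 : (tB R : GL (α × β) F) * tB R = 1 := by rw [← tB_mul, refl_invol hQ hRr, tB_one]
    have hk2 : k * k = 1 := by
      rw [hkdef, show g⁻¹ * tB R * g * (g⁻¹ * tB R * g) = g⁻¹ * (tB R * tB R) * g by group, hR2, mul_one,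
        inv_mul_cancel]
    by_cases hk : IsKron k
    · have hk1 : k ≠ 1 := fun h1 => by
        rw [hkdef, mul_assoc, inv_mul_eq_one, eq_comm, mul_eq_right] at h1
        have h' := congrArg (piv f₁ e) (congrArg (fun t => mv t (ten d w)) h1)
        rw [tB_ten, mv_one, piv_ten C, piv_ten C, hde, one_smul, one_smul, hRr.2, Orth.pol_self hQ,
          mul_div_cancel_right₀ _ hw, sub_eq_self] at h'
        exact hw0 ((smul_eq_zero.1 h').resolve_left C.h2)
      obtain ⟨v, p, hv, hp, hvp⟩ := kron_invol_ten C hb hde hk hk2 hk1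
      obtain ⟨y, hy⟩ : ∃ y, y = mv g (ten v p) := ⟨_, rfl⟩
      have hyT : mv (tB R) y = -y := by
        have h' := congrArg (mv g) hvp
        rw [hkdef, mv_mul, mv_mul, mv_mv_inv, ← hy, ← neg_one_smul F (ten v p), mv_smul, ← hy, neg_one_smul] at h'
        exact h'
      have key : ∀ x, piv f₁ x y = (Orth.pol Q (piv f₁ x y) w / (2 * Q w)) • w := fun x => by
        have h' := congrArg (piv f₁ x) hyT
        rw [piv_tB C, hRr.2, map_neg] at h'
        apply smul_right_injective (β → F) C.h2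
        show (2 : F) • _ = (2 : F) • _
        rw [smul_smul, show (2 : F) * (Orth.pol Q (piv f₁ x y) w / (2 * Q w)) = Orth.pol Q (piv f₁ x y) w / Q w by
          have := C.h2; field_simp]
        linear_combination (norm := module) h'
      obtain ⟨u, hudef⟩ : ∃ u, u = (Orth.pol Q (piv f₁ e y) w / (2 * Q w)) • d -
          (Orth.pol Q (piv f₁ d y) w / (2 * Q w)) • e := ⟨_, rfl⟩
      have hyu : y = ten u w := by
        rw [hudef, ten_sub_left, ten_smul_left, ten_smul_left, ← ten_smul_right, ← ten_smul_right, ← key, ← key]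
        exact eq_two C ha hde y
      have hu0 : u ≠ 0 := fun h0 => ten_ne_zero hv hp (mv_inj g (by
        rw [← hy, hyu, h0, mv_zero, show ten (0 : α → F) w = 0 by rw [← zero_smul F u, ten_smul_left, zero_smul]]))
      obtain ⟨A₁, hA₁, hA₁v, -⟩ := exists_move_nondeg C.h₁ (nondeg_top C.h₁)
        (K := preserving (Units.coeHom (Matrix α α F)) f₁) (fun x _ c => stv_mem C.h₁ x c) Submodule.mem_top
        Submodule.mem_top he hv
      obtain ⟨A₂, hA₂, hA₂u, -⟩ := exists_move_nondeg C.h₁ (nondeg_top C.h₁)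
        (K := preserving (Units.coeHom (Matrix α α F)) f₁) (fun x _ c => stv_mem C.h₁ x c) Submodule.mem_top
        Submodule.mem_top hu0 he
      refine ⟨kr A₂ (1 : GL β F) * g * kr A₁ (1 : GL β F), M.mul_mem (M.mul_mem
        (C.kr_mem A₂ 1 (fun x y => hA₂ x y) mv_one_pol) hg) (C.kr_mem A₁ 1 (fun x y => hA₁ x y) mv_one_pol),
        fun hkr => hnk ?_, p, hp, w, hw0, ?_⟩
      · have := isKron_mul (isKron_mul (isKron_inv (isKron_kr A₂ (1 : GL β F))) hkr)
          (isKron_inv (isKron_kr A₁ (1 : GL β F)))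
        rwa [show (kr A₂ (1 : GL β F))⁻¹ * (kr A₂ 1 * g * kr A₁ 1) * (kr A₁ 1)⁻¹ = g by group] at this
      · rw [mv_mul, mv_mul, mv_kr_ten, hA₁v, mv_one, ← hy, hyu, mv_kr_ten, hA₂u, mv_one]
    · let L : (β → F) →ₗ[F] β → F := (piv f₁ e).comp ((mvLin k).comp (lam e))
      have Lv : ∀ p, L p = piv f₁ e (mv k (ten e p)) := fun p => by
        simp only [L, LinearMap.comp_apply, Matrix.toLin'_apply, lam_apply]
      obtain ⟨q, hq, hq0⟩ := skew_kernel C hb (L := L) fun x y => by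
        rw [Lv, Lv, pol_adjoint C hkM, inv_eq_of_mul_eq_one_right hk2]
      rw [Lv] at hq0
      have hline := eq_ten_of_piv C ha hde hq0
      refine ⟨k, hkM, hk, q, hq, _, fun h0 => ?_, hline⟩
      rw [h0, ten_zero_right] at hline
      exact ten_ne_zero he hq (mv_inj k (hline.trans (mv_zero k).symm))
  obtain ⟨h, hh, z₀, hz₀, c, hc, hC, hfix⟩ := exists_hyperplane C hb hne he hg' hnk' he hq'0
    (by rw [← hgq, mv_inv_mv, piv_line C]) fun hQq h hh hinv h0 hkerL => by
    have hl := eq_ten_of_piv C ha hde h0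
    obtain ⟨p', hp'⟩ : ∃ p', mv h (ten e q') = ten e p' := ⟨_, hl⟩
    have hback : mv h (ten e ((2 : F) • q' - p')) = ten e q' := by
      have h' : mv h (mv h⁻¹ (ten e q')) = ten e q' := mv_mv_inv _ _
      rw [hinv, hp', ← ten_add_right, ← two_smul F q'] at h'
      rwa [show ten e ((2 : F) • q' - p') = ten e ((2 : F) • q') - ten e p' from map_sub (lam e) _ _]
    obtain ⟨k, hk⟩ := Submodule.mem_span_singleton.1 (hkerL _ (by rw [hback, piv_line C]))
    have hp2 : p' = (2 - k) • q' := by linear_combination (norm := module) hk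
    have hk1 : k * (2 - k) = 1 := by
      have h' := hback
      rw [← hk, ten_smul_right, mv_smul, hp', hp2, ten_smul_right, smul_smul] at h'
      have h'' : (k * (2 - k) - 1) • ten e q' = 0 := by rw [sub_smul, one_smul, h', sub_self]
      exact sub_eq_zero.1 ((smul_eq_zero.1 h'').resolve_right (ten_ne_zero he hq'0))
    have hkk : k = 1 := sub_eq_zero.1 (mul_self_eq_zero.1 (by linear_combination -hk1))
    refine false_of_plane C hb ha hne hde hQq hh ?_ fun p p'' hpp => hkerL p (by rw [hpp, piv_line C])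
    rw [hp', hp2, hkk, show (2 : F) - 1 = 1 by ring, one_smul]
  exact false_of_hyperplane C hne he hh hz₀ hc hC hfix

end Cfsg.Agent.SympTensor
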