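/-
The tensor decompositions of symplectic spaces with an orthogonal factor of dimension three.
-/
import Cfsg.Agent.Lib.SympTensor.Two

set_option autoImplicit false
set_option linter.all false

namespace Cfsg.Agent.SympTensor

open scoped Matrix Kronecker
open Matrix Cfsg.Agent.Transvec Cfsg.Agent.TensorMax

/-- The stabiliser of a decomposition into an alternating factor and an orthogonal one of dimension three. -/
theorem symp_tensor3_maximal' {F : Type*} [Field F] [Fintype F] (hodd : Odd (Fintype.card F))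
    (h5 : 5 ≤ Fintype.card F) {m n₁ : ℕ} (hn : 3 < n₁ ∨ n₁ = 2) (e : (Fin m ⊕ Fin m) ≃ Fin n₁ × Fin 3)
    (P : GL (Fin m ⊕ Fin m) F) (f₁ : (Fin n₁ → F) → (Fin n₁ → F) → F) (f₂ : (Fin 3 → F) → (Fin 3 → F) → F)
    (hf₁ : Geo.IsSymplecticForm f₁) (hf₂ : Geo.IsSymmetricForm f₂)
    (hT : Geo.IsTensorFormStructure id (sympForm m F) f₁ f₂ e P) :
    Geo.IsMaximalIn (spGL m F) (Geo.tensorProductSubgroup n₁ 3 e P ⊓ spGL m F) := by
  have h2 : (2 : F) ≠ 0 := by
    intro h
    have hchar : ringChar F = 2 := by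
      haveI : CharP F (ringChar F) := ringChar.charP F
      exact (CharP.ringChar_of_prime_eq_zero Nat.prime_two (by exact_mod_cast h))
    have := FiniteField.even_card_iff_char_two.1 hchar
    exact Nat.not_even_iff_odd.2 hodd (Nat.even_iff.2 this)
  have hl : ∃ l : F, l ≠ 0 ∧ l * l ≠ 1 := by
    classical
    by_contra h
    push Not at h
    have : (Finset.univ : Finset F) ⊆ {0, 1, -1} := fun l _ => by
      by_cases h0 : l = 0
      · simp [h0]
      · rcases mul_self_eq_one_iff.1 (h l h0) with h1 | h1 <;> simp [h1]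
    have := (Finset.card_le_card this).trans Finset.card_le_three
    rw [Finset.card_univ] at this
    omega
  obtain ⟨c, hc, hT⟩ := hT
  set Q : (Fin 3 → F) → F := fun x => f₂ x x / 2 with hQdef
  have hpolQ : ∀ x y, Orth.pol Q x y = f₂ x y := fun x y => by
    simp only [hQdef, Orth.pol, QuadraticMap.polar, hf₂.bilinear.add_left, hf₂.bilinear.add_right, hf₂.symm y x]
    field_simp
    ring
  have hQ : Geo.IsNondegenerateQuadraticForm Q := by
    refine ⟨fun r v => ?_, ⟨fun x y v => ?_, fun r x v => ?_, fun v x y => ?_, fun r v x => ?_⟩, fun v hv => ?_⟩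
    · simp only [hQdef, hf₂.bilinear.smul_left, hf₂.bilinear.smul_right]
      ring
    · show Orth.pol Q (x + y) v = Orth.pol Q x v + Orth.pol Q y v
      simp only [hpolQ, hf₂.bilinear.add_left]
    · show Orth.pol Q (r • x) v = r * Orth.pol Q x v
      simp only [hpolQ, hf₂.bilinear.smul_left]
    · show Orth.pol Q v (x + y) = Orth.pol Q v x + Orth.pol Q v y
      simp only [hpolQ, hf₂.bilinear.add_right]
    · show Orth.pol Q v (r • x) = r * Orth.pol Q v x
      simp only [hpolQ, hf₂.bilinear.smul_right]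
    · obtain ⟨⟨x, hx⟩, ⟨y, hy⟩⟩ := hf₂.nondegenerate v hv
      exact ⟨⟨x, show Orth.pol Q x v ≠ 0 by rwa [hpolQ]⟩, ⟨y, show Orth.pol Q v y ≠ 0 by rwa [hpolQ]⟩⟩
  have hs := Cfsg.Agent.Transvec.sympForm_isSymplectic m F
  set f : (Fin n₁ × Fin 3 → F) → (Fin n₁ × Fin 3 → F) → F :=
    fun x y => c⁻¹ * sympForm m F (mv P (x ∘ e)) (mv P (y ∘ e)) with hfdef
  have hadd : ∀ x y : Fin n₁ × Fin 3 → F, mv P ((x + y) ∘ e) = mv P (x ∘ e) + mv P (y ∘ e) := fun x y => by
    rw [← mv_add]; rfl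
  have hsmul : ∀ (r : F) (x : Fin n₁ × Fin 3 → F), mv P ((r • x) ∘ e) = r • mv P (x ∘ e) := fun r x => by
    rw [← mv_smul]; rfl
  have hsurj : ∀ y, ∃ x : Fin n₁ × Fin 3 → F, mv P (x ∘ e) = y := fun y => ⟨(mv P⁻¹ y) ∘ e.symm, by
    rw [Function.comp_assoc, Equiv.symm_comp_self, Function.comp_id, mv_mv_inv]⟩
  have hf : Geo.IsSymplecticForm f := by
    refine ⟨⟨fun x y v => ?_, fun r x v => ?_, fun v x y => ?_, fun r v x => ?_⟩,
      fun v w => by simp only [hfdef]; rw [hs.skew]; ring, fun v => ?_, fun v hv => ?_⟩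
    · simp only [hfdef, hadd, hs.bilinear.add_left, mul_add]
    · simp only [hfdef, hsmul, hs.bilinear.smul_left]; ring
    · simp only [hfdef, hadd, hs.bilinear.add_right, mul_add]
    · simp only [hfdef, hsmul, hs.bilinear.smul_right]; ring
    · simp only [hfdef, hs.alternating, mul_zero]
    · have hv' : mv P (v ∘ e) ≠ 0 := fun h => hv (by
        funext k
        simpa using congrFun (mv_inj P (h.trans (mv_zero P).symm)) (e.symm k))
      obtain ⟨⟨x, hx⟩, ⟨y, hy⟩⟩ := hs.nondegenerate _ hv'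
      obtain ⟨x', rfl⟩ := hsurj x
      obtain ⟨y', rfl⟩ := hsurj y
      exact ⟨⟨x', mul_ne_zero (inv_ne_zero hc) hx⟩, ⟨y', mul_ne_zero (inv_ne_zero hc) hy⟩⟩
  have hbase : ∀ (r : ℕ) (g : (Fin r → F) → (Fin r → F) → F), Geo.IsBilinearForm g → ∀ u v,
      ∑ i, ∑ j, u i * Geo.gramMatrix g i j * v j = g u v := by
    intro r g hg u v
    have hl : ∀ (s : Finset (Fin r)) (x : Fin r → Fin r → F) w, g (∑ i ∈ s, x i) w = ∑ i ∈ s, g (x i) w := by
      intro s x w
      exact map_sum (AddMonoidHom.mk' (fun a => g a w) fun a b => hg.add_left a b w) x s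
    have hr : ∀ (s : Finset (Fin r)) (x : Fin r → Fin r → F) w, g w (∑ i ∈ s, x i) = ∑ i ∈ s, g w (x i) := by
      intro s x w
      exact map_sum (AddMonoidHom.mk' (fun a => g w a) fun a b => hg.add_right w a b) x s
    conv_rhs => rw [pi_eq_sum_univ' u, pi_eq_sum_univ' v, hl]
    refine Finset.sum_congr rfl fun i _ => ?_
    rw [hg.smul_left, hr, Finset.mul_sum]
    refine Finset.sum_congr rfl fun j _ => ?_
    rw [hg.smul_right, Geo.gramMatrix]
    ring
  have hpol : ∀ u w v z, f (ten u w) (ten v z) = f₁ u v * Orth.pol Q w z := by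
    intro u w v z
    rw [hpolQ, hfdef]
    show c⁻¹ * sympForm m F (mv P (ten u w ∘ e)) (mv P (ten v z ∘ e)) = _
    rw [show sympForm m F (mv P (ten u w ∘ e)) (mv P (ten v z ∘ e)) = _ from hT (ten u w) (ten v z),
      ← mul_assoc, inv_mul_cancel₀ hc, one_mul, ← hbase _ _ hf₁.bilinear, ← hbase _ _ hf₂.bilinear]
    simp only [Geo.formOfGram, id_eq, Fintype.sum_prod_type, ten_apply, Matrix.kroneckerMap_apply,
      Finset.sum_mul, Finset.mul_sum]
    rw [Finset.sum_comm]
    refine Finset.sum_congr rfl fun k _ => ?_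
    conv_rhs => rw [Finset.sum_comm]
    refine Finset.sum_congr rfl fun i _ => ?_
    rw [Finset.sum_comm]
    exact Finset.sum_congr rfl fun l _ => Finset.sum_congr rfl fun j _ => by ring
  have hmap : ((preserving (Units.coeHom (Matrix (Fin n₁ × Fin 3) (Fin n₁ × Fin 3) F)) f).map
      (Geo.glReindex (F := F) e.symm).toMonoidHom).map (MulAut.conj P).toMonoidHom = spGL m F := by
    let φ : GL (Fin n₁ × Fin 3) F ≃* GL (Fin m ⊕ Fin m) F := (Geo.glReindex e.symm).trans (MulAut.conj P)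
    have hφ : ∀ g x, mv (φ g) (mv P (x ∘ e)) = mv P ((mv g x) ∘ e) := fun g x => by
      show mv (MulAut.conj P (Geo.glReindex e.symm g)) (mv P (x ∘ e)) = _
      rw [MulAut.conj_apply, mv_mul, mv_mul, mv_inv_mv, TensorMax.S.mv_reindex']
    rw [Subgroup.map_map]
    show Subgroup.map φ.toMonoidHom _ = _
    ext g
    constructor
    · rintro ⟨h, hh, rfl⟩
      show ∀ u v, sympForm m F (mv (φ h) u) (mv (φ h) v) = sympForm m F u v
      intro u v
      obtain ⟨x, rfl⟩ := hsurj u
      obtain ⟨y, rfl⟩ := hsurj v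
      rw [hφ, hφ]
      exact mul_left_cancel₀ (inv_ne_zero hc) (show f (mv h x) (mv h y) = f x y from hh x y)
    · intro hg
      obtain ⟨h, rfl⟩ := φ.surjective g
      refine ⟨h, fun x y => ?_, rfl⟩
      have this' : sympForm m F (mv (φ h) (mv P (x ∘ e))) (mv (φ h) (mv P (y ∘ e))) =
          sympForm m F (mv P (x ∘ e)) (mv P (y ∘ e)) := hg (mv P (x ∘ e)) (mv P (y ∘ e))
      rw [hφ, hφ] at this'
      show f (mv h x) (mv h y) = f x y
      simp only [hfdef, this']
  have h := maximal_of hf hf₁ hQ hpol h2 hl (by simp) (by simp only [Fintype.card_fin]; omega)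
    (fun M C hne g hg hnk => hn.elim
      (fun hn => false_of_large (by simp) (by simpa using hn) M C hne g hg hnk)
      (fun hn => false_of_two (by simp) (by simpa using hn) M C hne g hg hnk))
    (K := Geo.kroneckerSubgroup n₁ 3 F) (fun g => Iff.rfl)
  have h' := Transvec.isMaximalIn_map (MulAut.conj P) (Transvec.isMaximalIn_map (Geo.glReindex e.symm) h)
  rw [Subgroup.map_inf _ _ (Geo.glReindex (F := F) e.symm).toMonoidHom (Geo.glReindex e.symm).injective,
    Subgroup.map_inf _ _ (MulAut.conj P).toMonoidHom (MulAut.conj P).injective, hmap] at h'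
  exact h'

/-- The first factor of dimension at least four. -/
theorem symp_tensor3_maximal {F : Type*} [Field F] [Fintype F] (hodd : Odd (Fintype.card F))
    (h5 : 5 ≤ Fintype.card F) {m n₁ : ℕ} (hn : 3 < n₁) (e : (Fin m ⊕ Fin m) ≃ Fin n₁ × Fin 3)
    (P : GL (Fin m ⊕ Fin m) F) (f₁ : (Fin n₁ → F) → (Fin n₁ → F) → F) (f₂ : (Fin 3 → F) → (Fin 3 → F) → F)
    (hf₁ : Geo.IsSymplecticForm f₁) (hf₂ : Geo.IsSymmetricForm f₂)
    (hT : Geo.IsTensorFormStructure id (sympForm m F) f₁ f₂ e P) :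
    Geo.IsMaximalIn (spGL m F) (Geo.tensorProductSubgroup n₁ 3 e P ⊓ spGL m F) :=
  symp_tensor3_maximal' hodd h5 (Or.inl hn) e P f₁ f₂ hf₁ hf₂ hT

end Cfsg.Agent.SympTensor
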